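import Mathlib
import Cfsg.Prelude.Def_MonsterType

/-!
# SL(3, 2) has no non-trivial normal 2-subgroup
-/

set_option autoImplicit false

namespace CfsgLib.Spor.MonsterType.Seven

theorem sl_pair : ∀ x : Matrix.SpecialLinearGroup (Fin 3) (ZMod 2), x ^ 4 = 1 → x ≠ 1 →
    ∃ g : Matrix.SpecialLinearGroup (Fin 3) (ZMod 2), (x * (g * x * g⁻¹)) ^ 4 ≠ 1 := by decide +kernel

theorem sl_exp : ∀ x : Matrix.SpecialLinearGroup (Fin 3) (ZMod 2), x ^ 8 = 1 → x ^ 4 = 1 := by decide +kernel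

theorem sl_card : Nat.card (Matrix.SpecialLinearGroup (Fin 3) (ZMod 2)) = 168 := by
  rw [Nat.card_eq_fintype_card]; decide +kernel

theorem sl_normal_two (N : Subgroup (Matrix.SpecialLinearGroup (Fin 3) (ZMod 2))) [hN : N.Normal]
    (h2 : IsPGroup 2 N) : N = ⊥ := by
  haveI : Fact (Nat.Prime 2) := ⟨Nat.prime_two⟩
  have hp : ∀ x ∈ N, x ^ 4 = 1 := fun x hx => by
    obtain ⟨k, hk⟩ := h2.exists_card_eq
    have hd : 2 ^ k ∣ 168 := hk ▸ sl_card ▸ N.card_subgroup_dvd_card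
    have hk3 : k ≤ 3 := by
      by_contra h
      have : 2 ^ 4 ∣ 168 := (pow_dvd_pow 2 (by omega : 4 ≤ k)).trans hd
      norm_num at this
    refine sl_exp x (orderOf_dvd_iff_pow_eq_one.1 ((N.orderOf_dvd_natCard hx).trans ?_))
    rw [hk]
    exact pow_dvd_pow 2 hk3
  refine (Subgroup.eq_bot_iff_forall _).2 fun x hx => ?_
  by_contra hx1
  obtain ⟨g, hg⟩ := sl_pair x (hp x hx) hx1
  exact hg (hp _ (mul_mem hx (hN.conj_mem x hx g)))

end CfsgLib.Spor.MonsterType.Seven
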