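import Cfsg.Agent.Lib.Spor.MonsterType.Seven.Certs
import Cfsg.Agent.Lib.Spor.Leech.ModTwo
import Cfsg.Agent.Lib.Spor.Leech.Stabilizers

/-!
# Classes modulo two of the vectors fixed by the element of order seven
-/

set_option autoImplicit false

namespace CfsgLib.Spor.MonsterType.Seven

open CfsgLib.Spor CfsgLib.Spor.Leech
open Cfsg (leechLattice Co0 sqNorm GolayPt M24 dotInt)

/-- Congruence modulo twice the lattice. -/
def Cong (v w : leechLattice) : Prop := ∃ u : leechLattice, w = v + (u + u)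

theorem Cong.refl (v : leechLattice) : Cong v v := ⟨0, by simp⟩

theorem Cong.symm {v w : leechLattice} (h : Cong v w) : Cong w v := by
  obtain ⟨u, hu⟩ := h
  exact ⟨-u, by rw [hu]; abel⟩

theorem Cong.trans {u v w : leechLattice} (h : Cong u v) (h' : Cong v w) : Cong u w := by
  obtain ⟨a, rfl⟩ := h
  obtain ⟨b, rfl⟩ := h'
  exact ⟨a + b, by abel⟩

theorem Cong.add {v v' w w' : leechLattice} (h : Cong v w) (h' : Cong v' w') : Cong (v + v') (w + w') := by
  obtain ⟨a, rfl⟩ := h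
  obtain ⟨b, rfl⟩ := h'
  exact ⟨a + b, by abel⟩

theorem Cong.smul {v w : leechLattice} (h : Cong v w) (g : Co0) : Cong (g • v) (g • w) := by
  obtain ⟨a, rfl⟩ := h
  exact ⟨g • a, by rw [co0_add, co0_add]⟩

theorem Cong.neg (v : leechLattice) : Cong v (-v) := ⟨-v, by abel⟩

theorem Cong.norm_eq {v w : leechLattice} (h : Cong v w) (hv : sqNorm (v : GolayPt → ℤ) ≤ 64)
    (hw : sqNorm (w : GolayPt → ℤ) ≤ 64) : sqNorm (v : GolayPt → ℤ) = sqNorm (w : GolayPt → ℤ) := by
  obtain ⟨a, rfl⟩ := h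
  refine (short_congr_norm v.2 (v + (a + a)).2 hv hw ⟨((-a : leechLattice) : GolayPt → ℤ), (-a).2, ?_⟩).1
  simp only [AddSubgroup.coe_add, AddSubgroup.coe_neg, two_nsmul]
  abel

/-- The test of congruence. -/
def congTest (x y : GolayPt → ℤ) : Bool :=
  decide (∀ p, (y p - x p) % 2 = 0) && leechTest (fun p => (y p - x p) / 2)

theorem cong_of_test {v w : leechLattice} (h : congTest (v : GolayPt → ℤ) (w : GolayPt → ℤ) = true) : Cong v w := by
  simp only [congTest, Bool.and_eq_true, decide_eq_true_eq] at h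
  refine ⟨⟨_, leechTest_spec h.2⟩, Subtype.ext (funext fun p => ?_)⟩
  have := h.1 p
  simp only [AddSubgroup.coe_add, Pi.add_apply]
  omega

theorem test_of_cong {v w : leechLattice} (h : Cong v w) : ∀ p,
    ((w : GolayPt → ℤ) p - (v : GolayPt → ℤ) p) % 2 = 0 := by
  obtain ⟨a, rfl⟩ := h
  intro p
  simp only [AddSubgroup.coe_add, Pi.add_apply]
  omega

/-- The permutation of order seven. -/
noncomputable def sigma : Equiv.Perm GolayPt := permOf sevenElt

theorem sevenElt_code : isPermCode sevenElt = true := isPermCode_of_isM24Code sevenElt_facts.1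

theorem sigma_mem : sigma ∈ M24 := permOf_mem_M24 sevenElt_facts.1

theorem sigma_apply (p : GolayPt) : sigma p = fnPt sevenElt p := permOf_apply sevenElt_code p

/-- The automorphism of order seven. -/
noncomputable def P : Co0 := prmAut sigma_mem

theorem P_apply (v : leechLattice) (p : GolayPt) :
    ((P • v : leechLattice) : GolayPt → ℤ) (fnPt sevenElt p) = (v : GolayPt → ℤ) p := by
  rw [← sigma_apply, P, prmAut_smul, Equiv.symm_apply_apply]

theorem P_fixed_iff (v : leechLattice) :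
    P • v = v ↔ ∀ p, (v : GolayPt → ℤ) (fnPt sevenElt p) = (v : GolayPt → ℤ) p := by
  refine ⟨fun h p => by conv_lhs => rw [← h, P_apply], fun h => Subtype.ext (funext fun p => ?_)⟩
  obtain ⟨q, rfl⟩ := sigma.surjective p
  rw [sigma_apply, P_apply, h]

theorem six_add (s t : Par) : six (s + t) = six s + six t := by
  funext p
  simp only [six, Pi.add_apply]
  generalize grp p = g
  fin_cases g <;> rfl

theorem six_zero : six 0 = 0 := by
  funext p
  simp only [six, Pi.zero_apply]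
  generalize grp p = g
  fin_cases g <;> rfl

theorem six_zsmul (k : ℤ) (t : Par) : six (k • t) = k • six t :=
  map_zsmul (AddMonoidHom.mk' six six_add) k t

theorem six_fixed (t : Par) (p : GolayPt) : six t (fnPt sevenElt p) = six t p := by
  simp only [six, grp_facts.1 p]

/-- The representative of a class. -/
def rep (n : ℕ) : leechLattice :=
  if h : leechTest (six (repTab.getD n 0)) = true then ⟨_, leechTest_spec h⟩ else 0

set_option maxRecDepth 100000 in
theorem repTab_facts : (∀ n : Fin 64, leechTest (six (repTab.getD n 0)) = true) ∧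
    (∀ n : Fin 64, sqNorm (six (repTab.getD n 0)) ≤ 64) ∧
    (∀ n : Fin 64, (n : ℕ) ∈ longs ↔ sqNorm (six (repTab.getD n 0)) = 64) ∧
    (∀ n : Fin 64, sqNorm (six (repTab.getD n 0)) = 0 ↔ (n : ℕ) = 0) := by
  refine ⟨by decide +kernel, by decide +kernel, by decide +kernel, by decide +kernel⟩

theorem rep_coe {n : ℕ} (hn : n < 64) : (rep n : GolayPt → ℤ) = six (repTab.getD n 0) := by
  rw [rep, dif_pos (repTab_facts.1 ⟨n, hn⟩)]

theorem rep_fixed {n : ℕ} (hn : n < 64) : P • rep n = rep n :=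
  (P_fixed_iff _).2 fun p => by rw [rep_coe hn]; exact six_fixed _ p

theorem rep_norm_le {n : ℕ} (hn : n < 64) : sqNorm (rep n : GolayPt → ℤ) ≤ 64 := by
  rw [rep_coe hn]; exact repTab_facts.2.1 ⟨n, hn⟩

theorem mem_longs_iff {n : ℕ} (hn : n < 64) : n ∈ longs ↔ sqNorm (rep n : GolayPt → ℤ) = 64 := by
  rw [rep_coe hn]; exact repTab_facts.2.2.1 ⟨n, hn⟩

/-- The combination of the basis with given coefficients. -/
def lin (k : Fin 6 → ℤ) : Par :=
  k 0 • basis.getD 0 0 + (k 1 • basis.getD 1 0 + (k 2 • basis.getD 2 0 +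
    (k 3 • basis.getD 3 0 + (k 4 • basis.getD 4 0 + k 5 • basis.getD 5 0))))

theorem lin_add (k l : Fin 6 → ℤ) : lin (k + l) = lin k + lin l := by
  simp only [lin, Pi.add_apply, add_zsmul]
  abel

theorem lin_mem (k : Fin 6 → ℤ) : six (lin k) ∈ leechLattice := by
  have h : ∀ j : Fin 6, leechTest (six (basis.getD j 0)) = true := by decide +kernel
  simp only [lin, six_add, six_zsmul]
  exact add_mem (zsmul_mem (leechTest_spec (h 0)) _) (add_mem (zsmul_mem (leechTest_spec (h 1)) _)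
    (add_mem (zsmul_mem (leechTest_spec (h 2)) _) (add_mem (zsmul_mem (leechTest_spec (h 3)) _)
    (add_mem (zsmul_mem (leechTest_spec (h 4)) _) (zsmul_mem (leechTest_spec (h 5)) _)))))

/-- The vector of a combination. -/
def linVec (k : Fin 6 → ℤ) : leechLattice := ⟨_, lin_mem k⟩

theorem linVec_add (k l : Fin 6 → ℤ) : linVec (k + l) = linVec k + linVec l :=
  Subtype.ext (by simp only [linVec, AddSubgroup.coe_add, lin_add, six_add])

/-- The bits of a number. -/
def bits (n : ℕ) : Fin 6 → ℤ := fun j => if n.testBit j then 1 else 0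

set_option maxRecDepth 100000 in
theorem bits_facts : (∀ n : Fin 64, congTest (six (repTab.getD n 0)) (six (lin (bits n))) = true) ∧
    (∀ n m : Fin 64, (n : ℕ) ^^^ (m : ℕ) < 64 ∧
      ∀ j : Fin 6, bits n j + bits m j = bits ((n : ℕ) ^^^ (m : ℕ)) j + 2 * bits ((n : ℕ) &&& (m : ℕ)) j) ∧
    (∀ r : Fin 6 → Fin 2, ∃ n : Fin 64, ∀ j, bits n j = (r j : ℕ)) := by
  refine ⟨by decide +kernel, by decide +kernel, by decide +kernel⟩

theorem rep_cong_bits {n : ℕ} (hn : n < 64) : Cong (rep n) (linVec (bits n)) :=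
  cong_of_test (by rw [rep_coe hn]; exact bits_facts.1 ⟨n, hn⟩)

theorem rep_xor {n m : ℕ} (hn : n < 64) (hm : m < 64) :
    n ^^^ m < 64 ∧ Cong (rep (n ^^^ m)) (rep n + rep m) := by
  obtain ⟨hl, hb⟩ := bits_facts.2.1 ⟨n, hn⟩ ⟨m, hm⟩
  have e : linVec (bits n) + linVec (bits m) =
      linVec (bits (n ^^^ m)) + (linVec (bits (n &&& m)) + linVec (bits (n &&& m))) := by
    simp only [← linVec_add]
    exact congrArg linVec (funext fun j => by have := hb j; simp only [Pi.add_apply] at this ⊢; omega)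
  refine ⟨hl, (rep_cong_bits hl).trans (Cong.trans ⟨_, e⟩ ((rep_cong_bits hn).add (rep_cong_bits hm)).symm)⟩

theorem rep_zero : rep 0 = 0 :=
  Subtype.ext (by
    have h : repTab.getD 0 0 = 0 := by decide +kernel
    rw [rep_coe (by norm_num), h, six_zero]; rfl)

theorem eq_zero_of_cong {n : ℕ} (hn : n < 64) (h : Cong 0 (rep n)) : n = 0 := by
  refine (repTab_facts.2.2.2 ⟨n, hn⟩).1 ?_
  rw [← rep_coe hn, ← h.norm_eq (by simp [sqNorm]) (rep_norm_le hn)]
  simp [sqNorm]

theorem rep_inj {n m : ℕ} (hn : n < 64) (hm : m < 64) (h : Cong (rep n) (rep m)) : n = m := by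
  have h0 : Cong 0 (rep n + rep m) := by
    refine (Cong.trans ⟨rep n, by abel⟩ ((Cong.refl (rep n)).add h))
  have := eq_zero_of_cong (rep_xor hn hm).1 (h0.trans (rep_xor hn hm).2.symm)
  exact Nat.xor_eq_zero_iff.1 this

/-- The sum of the coordinates of a vector over an orbit. -/
def orbSum (x : GolayPt → ℤ) (g : Fin 6) : ℤ := ∑ p ∈ Finset.univ.filter (fun p => grp p = g), x p

theorem dot_six (t : Par) (x : GolayPt → ℤ) : dotInt (six t) x = ∑ g, t.get g * orbSum x g := by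
  rw [dotInt, ← Finset.sum_fiberwise (g := grp)]
  refine Finset.sum_congr rfl fun g _ => ?_
  rw [orbSum, Finset.mul_sum]
  exact Finset.sum_congr rfl fun p hp => by rw [six, (Finset.mem_filter.1 hp).2]

theorem probe_facts :
    (∀ g, orbSum (fourVec none (idxPt 0)) g = ![4, 4, 0, 0, 0, 0] g) ∧
    (∀ g, orbSum (fourVec none (idxPt 1)) g = ![4, 0, 4, 0, 0, 0] g) ∧
    (∀ g, orbSum (twoVec 15864000) g = ![2, 0, 0, 14, 0, 0] g) ∧
    (∀ g, orbSum (twoVec 902657) g = ![0, 2, 0, 0, 14, 0] g) ∧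
    (∀ g, orbSum (twoVec 10558) g = ![0, 0, 2, 0, 0, 14] g) ∧
    (∀ g, orbSum oddVec g = ![-3, 1, 1, 7, 7, 7] g) ∧
    codeTest 15864000 = true ∧ codeTest 902657 = true ∧ codeTest 10558 = true := by
  decide +kernel

theorem lin_eq (k : Fin 6 → ℤ) : lin k = (5 * k 0 + 4 * k 3, k 0 + 2 * k 1 + 4 * k 3 + 4 * k 4, k 0 + 2 * k 2 + 4 * k 4 + 8 * k 5, k 0, k 0 + 2 * k 1, k 0 + 2 * k 2) := by
  simp only [lin, basis, List.getD_cons_zero, List.getD_cons_succ]
  ext <;> simp <;> ring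

theorem six_solve {a b c d e f : ℤ} (h1 : 8 ∣ a * 4 + b * 4) (h2 : 8 ∣ a * 4 + c * 4) (h3 : 8 ∣ a * 2 + d * 14)
    (h4 : 8 ∣ b * 2 + e * 14) (h5 : 8 ∣ c * 2 + f * 14)
    (h6 : 8 ∣ a * -3 + b + c + d * 7 + e * 7 + f * 7) :
    ∃ k2 k3 k4 k5 k6 : ℤ, a = 5 * d + 4 * k4 ∧ b = d + 2 * k2 + 4 * k4 + 4 * k5 ∧ c = d + 2 * k3 + 4 * k5 + 8 * k6 ∧ e = d + 2 * k2 ∧ f = d + 2 * k3 := by
  obtain ⟨t1, h1⟩ := h1
  obtain ⟨t2, h2⟩ := h2
  obtain ⟨t3, h3⟩ := h3
  obtain ⟨t4, h4⟩ := h4
  obtain ⟨t5, h5⟩ := h5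
  obtain ⟨t6, h6⟩ := h6
  exact ⟨t1 - 2 * (t3 + t4) + 4 * (d + e) - d, t2 - 2 * (t3 + t5) + 4 * (d + f) - d, t3 - 3 * d,
    t4 - 2 * e - (t3 - 3 * d), (t5 - (t4 - 2 * e - (t3 - 3 * d))) / 2 - f,
    by omega, by omega, by omega, by omega, by omega⟩

theorem exists_class {v : leechLattice} (hv : P • v = v) : ∃ n < 64, Cong (rep n) v := by
  set a := (v : GolayPt → ℤ) none with ha
  set b := (v : GolayPt → ℤ) (idxPt 0) with hb
  set c := (v : GolayPt → ℤ) (idxPt 1) with hc
  set d := (v : GolayPt → ℤ) (idxPt 6) with hd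
  set e := (v : GolayPt → ℤ) (idxPt 9) with he
  set f := (v : GolayPt → ℤ) (idxPt 2) with hf
  have hiter : ∀ (k : ℕ) (p : GolayPt), (v : GolayPt → ℤ) ((fnPt sevenElt)^[k] p) = (v : GolayPt → ℤ) p := by
    intro k
    induction k with
    | zero => intro p; rfl
    | succ k ih =>
      intro p
      rw [Function.iterate_succ_apply', (P_fixed_iff v).1 hv, ih]
  have hsix : (v : GolayPt → ℤ) = six (a, b, c, d, e, f) := by
    funext p
    obtain ⟨k, hk⟩ := grp_facts.2.1 p
    conv_lhs => rw [← hk, hiter]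
    rw [six]
    generalize grp p = g
    fin_cases g <;> rfl
  obtain ⟨h1, h2, h3, h4, h5, h6, c1, c2, c3⟩ := probe_facts
  have probe : ∀ x ∈ leechLattice, ∀ w : Fin 6 → ℤ, (∀ g, orbSum x g = w g) →
      8 ∣ a * w 0 + b * w 1 + c * w 2 + d * w 3 + e * w 4 + f * w 5 := fun x hx w hw => by
    have := dot_dvd v.2 hx
    rw [hsix, dot_six, Fin.sum_univ_six] at this
    simpa [Par.get, hw] using this
  have k1 := probe _ (fourVec_mem _ _) _ h1
  have k2 := probe _ (fourVec_mem _ _) _ h2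
  have k3 := probe _ (twoVec_mem ((word_mem_golayCode_iff _).2 c1)) _ h3
  have k4 := probe _ (twoVec_mem ((word_mem_golayCode_iff _).2 c2)) _ h4
  have k5 := probe _ (twoVec_mem ((word_mem_golayCode_iff _).2 c3)) _ h5
  have k6 := probe _ oddVec_mem _ h6
  obtain ⟨k2, k3, k4, k5, k6, ea, eb, ec, ee, ef⟩ := six_solve (a := a) (b := b) (c := c) (d := d) (e := e) (f := f)
    (by simpa using k1) (by simpa using k2) (by simpa using k3) (by simpa using k4) (by simpa using k5)
    (by simpa using k6)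
  set k : Fin 6 → ℤ := ![d, k2, k3, k4, k5, k6] with hkdef
  have hk : v = linVec k := Subtype.ext (hsix.trans (congrArg six (by
    rw [lin_eq]
    simp only [hkdef, Matrix.cons_val_zero, Matrix.cons_val_one, Matrix.cons_val]
    rw [← ea, ← eb, ← ec, ← ee, ← ef])))
  obtain ⟨n, hn⟩ := bits_facts.2.2 fun j => ⟨(k j % 2).toNat, by omega⟩
  refine ⟨n, n.2, (rep_cong_bits n.2).trans ⟨linVec fun j => k j / 2, ?_⟩⟩
  rw [hk, ← linVec_add, ← linVec_add]
  refine congrArg linVec (funext fun j => ?_)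
  have := hn j
  simp only [Pi.add_apply] at this ⊢
  push_cast at this
  omega

end CfsgLib.Spor.MonsterType.Seven
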