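import Cfsg.Agent.Lib.Spor.MonsterType.Cross

/-!
# A change of lattice coordinates, and fixed points of elements of order seven
-/

set_option autoImplicit false

namespace CfsgLib.Spor.MonsterType

open Subgroup CfsgLib.Spor.Leech
open Cfsg (leechLattice Co0 sqNorm GolayPt)

variable {G : Type*} [Group G] [Finite G] {z : G} {Q : Subgroup G} {R : leechLattice → G → Prop}
  {π : ↥(centralizer ({z} : Set G)) →* Cfsg.Spor.Co1}

/-- The coordinates moved by a lattice automorphism. -/
theorem Data.twist (D : Data z Q R π) (h : Co0) :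
    Data z Q (fun v q => R (h⁻¹ • v) q) ((MulAut.conj (QuotientGroup.mk h : Cfsg.Spor.Co1)).toMonoidHom.comp π) where
  core := D.core
  card := D.card
  repr v := D.repr _
  mem hq := D.mem hq
  short q hq := by
    obtain ⟨v, hv, hvq⟩ := D.short q hq
    exact ⟨h • v, by rw [co0_norm]; exact hv, by rw [inv_smul_smul]; exact hvq⟩
  unique h1 h2 := D.unique h1 h2
  ker {v q} hq := by
    rw [D.ker hq]
    exact ⟨fun ⟨w, hw⟩ => ⟨h • w, by rw [← co0_add, ← hw, smul_inv_smul]⟩,
      fun ⟨w, hw⟩ => ⟨h⁻¹ • w, by rw [hw, co0_add]⟩⟩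
  sq {v q} hq := by rw [D.sq hq, co0_norm]
  conj {v q} c {g} hg hq := by
    have hc : π c = QuotientGroup.mk (h⁻¹ * g * h) := by
      have e : (QuotientGroup.mk h : Cfsg.Spor.Co1) * π c * (QuotientGroup.mk h : Cfsg.Spor.Co1)⁻¹ =
          QuotientGroup.mk g := hg
      rw [QuotientGroup.mk_mul, QuotientGroup.mk_mul, QuotientGroup.mk_inv, ← e]
      group
    have := D.conj c hc hq
    rwa [mul_smul, mul_smul, smul_inv_smul] at this
  add {v w p q} h1 h2 := by rw [co0_add]; exact D.add h1 h2
  surj := (MulAut.conj (QuotientGroup.mk h : Cfsg.Spor.Co1)).surjective.comp D.surj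
  kerπ c := by
    rw [MonoidHom.comp_apply, MulEquiv.coe_toMonoidHom, MulEquiv.map_eq_one_iff]
    exact D.kerπ c

/-- A set of 2-power size invariant under an element of order seven has a fixed point. -/
theorem exists_fixed_seven {b : G} (hb : b ^ 7 = 1) (S : Set G) (hS : ∀ x ∈ S, b * x * b⁻¹ ∈ S) {a : ℕ}
    (hc : S.ncard = 2 ^ a) : ∃ x ∈ S, b * x = x * b := by
  classical
  haveI : Fact (Nat.Prime 7) := ⟨by norm_num⟩
  haveI : Fintype S := Fintype.ofFinite S
  let f : S → S := fun x => ⟨b * x * b⁻¹, hS x x.2⟩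
  have hf : ∀ (k : ℕ) (x : S), ((f^[k] x : S) : G) = b ^ k * x * (b ^ k)⁻¹ := by
    intro k
    induction k with
    | zero => intro x; simp
    | succ k ih =>
      intro x
      rw [Function.iterate_succ_apply']
      show b * (f^[k] x : G) * b⁻¹ = _
      rw [ih, pow_succ']
      group
  let e : Function.End S := f
  have he : e ^ 7 ^ 1 = 1 := funext fun x => Subtype.ext (by
    rw [pow_one, show (e ^ 7 : Function.End S) = f^[7] from hom_coe_pow (fun g : Function.End S => (g : S → S)) rfl (fun _ _ => rfl) e 7, hf, hb]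
    show 1 * (x : G) * 1⁻¹ = x
    simp)
  have hmod := Equiv.Perm.card_fixedPoints_modEq (p := 7) he
  have hcard : Fintype.card S = 2 ^ a := by rw [← Nat.card_eq_fintype_card, Nat.card_coe_set_eq, hc]
  have hpos : 0 < Fintype.card (Function.fixedPoints e) := by
    by_contra h0
    have h7 : 7 ∣ 2 ^ a := by
      rw [← hcard]
      exact (Nat.modEq_zero_iff_dvd).1 (by simpa [Nat.eq_zero_of_not_pos h0] using hmod)
    have := (Nat.prime_dvd_prime_iff_eq (by norm_num) Nat.prime_two).1 ((Fact.out : Nat.Prime 7).dvd_of_dvd_pow h7)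
    omega
  obtain ⟨⟨x, hx⟩⟩ := Fintype.card_pos_iff.1 hpos
  exact ⟨x, x.2, mul_inv_eq_iff_eq_mul.1 (congrArg Subtype.val (show f x = x from hx))⟩

end CfsgLib.Spor.MonsterType
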