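import Cfsg.Agent.Lib.Spor.MonsterType.Seven.Action
import Cfsg.Agent.Lib.Spor.MonsterType.Seven.Twist
import Cfsg.Agent.Lib.Spor.MonsterType.Meet

/-!
# The fixed points on `Q` of the element of order seven, and their fusion in its centralizer
-/

set_option autoImplicit false

namespace CfsgLib.Spor.MonsterType.Seven

open Subgroup CfsgLib.Spor CfsgLib.Spor.Leech
open Cfsg (leechLattice Co0 sqNorm GolayPt)

noncomputable section

variable {G : Type*} [Group G] [Finite G] {z : G} {Q : Subgroup G} {R : leechLattice → G → Prop}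
  {π : ↥(centralizer ({z} : Set G)) →* Cfsg.Spor.Co1}

/-- An element of order seven in standard position. -/
structure Elt (D : Data z Q R π) (b : G) : Prop where
  mem : b ∈ centralizer ({z} : Set G)
  ord : orderOf b = 7
  img : π ⟨b, mem⟩ = QuotientGroup.mk P
  weak : ∃ g : G, g * z * g⁻¹ ∈ Q ∧ g * z * g⁻¹ ≠ z

variable {D : Data z Q R π} {b : G}

/-- The fixed points. -/
def fixed (Q : Subgroup G) (b : G) : Subgroup G := Q ⊓ centralizer ({b} : Set G)

/-- A class fixed modulo two contains a fixed vector. -/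
theorem exists_rep {v : leechLattice} (h : Cong v (P • v)) : ∃ n < 64, Cong v (rep n) := by
  have hk : ∀ k : ℕ, Cong v (P ^ k • v) := by
    intro k
    induction k with
    | zero => rw [pow_zero, one_smul]; exact Cong.refl v
    | succ k ih => rw [pow_succ', mul_smul]; exact h.trans (ih.smul P)
  set s := P ^ 0 • v + (P ^ 1 • v + (P ^ 2 • v + (P ^ 3 • v + (P ^ 4 • v + (P ^ 5 • v + P ^ 6 • v))))) with hs
  have hfix : P • s = s := by
    rw [hs, co0_add, co0_add, co0_add, co0_add, co0_add, co0_add]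
    simp only [← mul_smul, ← pow_succ']
    rw [P_pow_seven, pow_zero]
    abel
  have hc : Cong v s := by
    have h7 : Cong (v + (v + (v + (v + (v + (v + v)))))) s :=
      (hk 0).add ((hk 1).add ((hk 2).add ((hk 3).add ((hk 4).add ((hk 5).add (hk 6))))))
    exact Cong.trans ⟨v + v + v, by abel⟩ h7
  obtain ⟨n, hn, hnc⟩ := exists_class hfix
  exact ⟨n, hn, hc.trans hnc.symm⟩

/-- Elements over congruent classes. -/
theorem class_shift {v w : leechLattice} {q : G} (hv : R v q) (hw : R w (q * z)) (D : Data z Q R π) : Cong v w := by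
  obtain ⟨r, hr⟩ := D.repr (w - v)
  have h' := D.add hv hr
  rw [add_sub_cancel] at h'
  obtain ⟨u, hu⟩ := (D.ker hr).1 (by
    rcases D.unique hw h' with e | e
    · exact Or.inr (mul_left_cancel e)
    · left
      rw [mul_assoc q z z, D.zz, mul_one] at e
      exact mul_eq_left.1 e)
  exact ⟨u, by rw [← hu, add_sub_cancel]⟩

namespace Elt

variable (E : Elt D b)
include E

theorem bz : b * z = z * b := mem_centralizer_singleton_iff.1 E.mem

theorem pow7 : b ^ 7 = 1 := E.ord ▸ pow_orderOf_eq_one b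

theorem comm_iff {v : leechLattice} {q : G} (hq : R v q) : b * q = q * b ↔ Cong v (P • v) := by
  have h := D.conj ⟨b, E.mem⟩ E.img hq
  change R (P • v) (b * q * b⁻¹) at h
  constructor
  · intro e
    rw [e, mul_inv_cancel_right] at h
    exact D.congr_of_fixed hq h
  · rintro ⟨u, hu⟩
    rw [hu] at h
    rcases D.unique_congr hq h with e | e
    · exact mul_inv_eq_iff_eq_mul.1 e
    · -- seven is odd
      exfalso
      have hconj : ∀ k : ℕ, b ^ k * q * (b ^ k)⁻¹ = q * z ^ k := by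
        intro k
        induction k with
        | zero => simp
        | succ k ih =>
          calc b ^ (k + 1) * q * (b ^ (k + 1))⁻¹ = b * (b ^ k * q * (b ^ k)⁻¹) * b⁻¹ := by rw [pow_succ']; group
            _ = (b * q * b⁻¹) * (b * z * b⁻¹) ^ k := by rw [ih, conj_pow]; group
            _ = q * z * z ^ k := by rw [e, E.bz, mul_inv_cancel_right]
            _ = q * z ^ (k + 1) := by rw [pow_succ', mul_assoc]
      have h7 := hconj 7
      rw [E.pow7, one_mul, inv_one, mul_one, eq_comm, mul_eq_left,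
        pow_succ z 6, show (6 : ℕ) = 2 * 3 from rfl, pow_mul, pow_two z, D.zz, one_pow, one_mul] at h7
      exact D.z_ne h7

theorem mem_fixed_iff {v : leechLattice} {q : G} (hq : R v q) : q ∈ fixed Q b ↔ Cong v (P • v) := by
  rw [fixed, mem_inf, mem_centralizer_singleton_iff, ← E.comm_iff hq]
  exact ⟨fun h => h.2.symm, fun h => ⟨D.mem hq, h.symm⟩⟩

theorem z_fixed : z ∈ fixed Q b := ⟨D.core.mem, mem_centralizer_singleton_iff.2 E.bz.symm⟩

theorem exists_fixed_rep {q : G} (hq : q ∈ fixed Q b) : ∃ n < 64, R (rep n) q ∨ R (rep n) (q * z) := by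
  obtain ⟨v, -, hv⟩ := D.short q hq.1
  obtain ⟨n, hn, u, hu⟩ := exists_rep ((E.mem_fixed_iff hv).1 hq)
  obtain ⟨r, hr⟩ := D.repr (rep n)
  rw [hu] at hr
  refine ⟨n, hn, ?_⟩
  rcases D.unique_congr hv hr with e | e <;> rw [← e, hu]
  · exact Or.inl hr
  · exact Or.inr hr

end Elt

/-- A chosen element over a class. -/
def pick (D : Data z Q R π) (n : ℕ) : G := (D.repr (rep n)).choose

theorem pick_spec (D : Data z Q R π) (n : ℕ) : R (rep n) (pick D n) := (D.repr (rep n)).choose_spec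

/-- The element over a class, possibly times the central involution. -/
def elt (D : Data z Q R π) (t : ℕ × Bool) : G := if t.2 then pick D t.1 * z else pick D t.1

namespace Elt

variable (E : Elt D b)
include E

theorem pick_mem {n : ℕ} (hn : n < 64) : pick D n ∈ fixed Q b :=
  (E.mem_fixed_iff (pick_spec D n)).2 (by rw [rep_fixed hn]; exact Cong.refl _)

theorem elt_mem {t : ℕ × Bool} (ht : t.1 < 64) : elt D t ∈ fixed Q b := by
  rw [elt]; split_ifs
  · exact mul_mem (E.pick_mem ht) E.z_fixed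
  · exact E.pick_mem ht

theorem exists_elt {q : G} (hq : q ∈ fixed Q b) : ∃ t : ℕ × Bool, t.1 < 64 ∧ elt D t = q := by
  obtain ⟨n, hn, h | h⟩ := E.exists_fixed_rep hq
  · rcases D.unique (pick_spec D n) h with e | e
    · exact ⟨(n, false), hn, e.symm⟩
    · exact ⟨(n, true), hn, e.symm⟩
  · rcases D.unique (pick_spec D n) h with e | e
    · refine ⟨(n, true), hn, ?_⟩
      show pick D n * z = q
      rw [← e, mul_assoc, D.zz, mul_one]
    · exact ⟨(n, false), hn, (mul_right_cancel e).symm⟩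

theorem elt_inj {t t' : ℕ × Bool} (ht : t.1 < 64) (ht' : t'.1 < 64) (e : elt D t = elt D t') : t = t' := by
  have hz : ∀ x : G, x * z ≠ x := fun x h => D.z_ne (mul_eq_left.1 h)
  have key : pick D t'.1 = pick D t.1 ∨ pick D t'.1 = pick D t.1 * z := by
    obtain ⟨n, bn⟩ := t
    obtain ⟨m, bm⟩ := t'
    cases bn <;> cases bm <;> simp [elt] at e
    · exact Or.inl e.symm
    · right; rw [e, mul_assoc, D.zz, mul_one]
    · exact Or.inr e.symm
    · exact Or.inl e.symm
  have hn : t.1 = t'.1 := by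
    rcases key with e' | e'
    · exact rep_inj ht ht' (D.congr_of_fixed (pick_spec D t.1) (e' ▸ pick_spec D t'.1))
    · exact rep_inj ht ht' (class_shift (pick_spec D t.1) (e' ▸ pick_spec D t'.1) D)
  obtain ⟨n, bn⟩ := t
  obtain ⟨m, bm⟩ := t'
  simp only at hn
  subst hn
  cases bn <;> cases bm <;> simp [elt] at e ⊢
  · exact D.z_ne e
  · exact D.z_ne e

theorem card_fixed : Nat.card (fixed Q b) = 128 := by
  let f : Fin 64 × Bool → fixed Q b := fun t => ⟨elt D (t.1, t.2), E.elt_mem t.1.2⟩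
  rw [← Nat.card_congr (Equiv.ofBijective f ⟨?_, ?_⟩)]
  · simp [Nat.card_eq_fintype_card]
  · intro s t h
    have := E.elt_inj (t := ((s.1 : ℕ), s.2)) (t' := ((t.1 : ℕ), t.2)) s.1.2 t.1.2 (congrArg Subtype.val h)
    simp only [Prod.mk.injEq] at this
    exact Prod.ext (Fin.ext this.1) this.2
  · rintro ⟨q, hq⟩
    obtain ⟨⟨n, c⟩, hn, e⟩ := E.exists_elt hq
    exact ⟨(⟨n, hn⟩, c), Subtype.ext e⟩

/-- The fixed points have centre `⟨z⟩`. -/
theorem fixed_center {c : G} (hc : c ∈ fixed Q b) (h : ∀ r ∈ fixed Q b, r * c = c * r) : c = 1 ∨ c = z := by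
  have hA : ∀ a ∈ zpowers b, a * z = z * a := fun a ha => by
    obtain ⟨k, rfl⟩ := mem_zpowers_iff.1 ha
    exact (show Commute b z from E.bz).zpow_left k
  refine D.core.fixed_central (zpowers b) (by rw [Nat.card_zpowers, E.ord]; decide)
    (fun a ha q hq => D.core.norm a (hA a ha) q hq) hA hc.1 (fun a ha => ?_) fun r hr hra => h r ⟨hr, ?_⟩
  · obtain ⟨k, rfl⟩ := mem_zpowers_iff.1 ha
    exact (show Commute b c from (mem_centralizer_singleton_iff.1 hc.2).symm).zpow_left k
  · exact mem_centralizer_singleton_iff.2 (hra b (mem_zpowers b)).symm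

/-- A conjugate of `z` among the fixed points lies pick one of the fourteen long classes. -/
theorem long_of_conj {q : G} (hq : q ∈ fixed Q b) (hne : q ≠ z) (hconj : IsConj z q) :
    ∃ t : ℕ × Bool, t.1 < 64 ∧ t.1 ∈ longs ∧ elt D t = q := by
  obtain ⟨g, rfl⟩ := isConj_iff.1 hconj
  obtain ⟨⟨n, c⟩, hn, e⟩ := E.exists_elt hq
  refine ⟨(n, c), hn, (mem_longs_iff hn).2 ?_, e⟩
  obtain ⟨v, hv, h64⟩ := D.long hq.1 hne
  have hr : R (rep n) (g * z * g⁻¹) ∨ R (rep n) (g * z * g⁻¹ * z) := by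
    rw [← e]
    cases c
    · exact Or.inl (pick_spec D n)
    · right
      show R _ (pick D n * z * z)
      rw [mul_assoc, D.zz, mul_one]
      exact pick_spec D n
  rcases hr with hr | hr
  · rw [← D.norm_unique hv hr (by omega) (rep_norm_le hn), h64]
  · rw [← (class_shift hv hr D).norm_eq (by omega) (rep_norm_le hn), h64]

/-- A long fixed point is conjugate to `z` in the centralizer of the element of order seven. -/
theorem conj_in_centralizer {t : ℕ × Bool} (ht : t.1 < 64) (hl : t.1 ∈ longs) :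
    elt D t ≠ z ∧ ∃ c : G, c * b = b * c ∧ c * z * c⁻¹ = elt D t := by
  haveI : Fact (Nat.Prime 2) := ⟨Nat.prime_two⟩
  have h64 := (mem_longs_iff ht).1 hl
  have hR : R (rep t.1) (pick D t.1) := pick_spec D t.1
  obtain ⟨h1, h2⟩ := D.conj_of_long E.weak hR h64
  have hconj : IsConj z (elt D t) ∧ elt D t ≠ z := by
    rw [elt]; split_ifs
    · obtain ⟨y, hy, hyq⟩ := D.move (D.mem hR) (D.noncentral hR (by omega)).1 h2
      refine ⟨h1.trans (isConj_iff.2 ⟨y, hyq⟩), fun e => ?_⟩
      exact (D.noncentral hR (by omega)).1 (mul_eq_right.1 e)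
    · exact ⟨h1, h2⟩
  refine ⟨hconj.2, ?_⟩
  set q := elt D t with hq
  obtain ⟨hqQ, hqb⟩ := E.elt_mem (t := t) ht
  rw [← hq] at hqQ hqb
  have hbq := mem_centralizer_singleton_iff.1 hqb
  obtain ⟨g, hg⟩ := isConj_iff.1 hconj.1
  have hd := D.duo (g := g) (by rw [hg]; exact hqQ) (by rw [hg]; exact hconj.2)
  rw [hg] at hd
  set Q' := Q.map (MulAut.conj g).toMonoidHom with hQ'
  -- fixed points in two cosets
  have key : ∀ (H : Subgroup G) (p r : G), (∀ x ∈ H, b * x * b⁻¹ ∈ H) → IsPGroup 2 H → b * p = p * b →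
      b * r = r * b → (∃ y ∈ H, y * p * y⁻¹ = r) → ∃ y ∈ H, b * y = y * b ∧ y * p * y⁻¹ = r := by
    intro H p r hH h2 hp hr ⟨y, hy, hyp⟩
    let S : Set G := {x | x ∈ H ∧ x * p * x⁻¹ = r}
    have hS : ∀ x ∈ S, b * x * b⁻¹ ∈ S := by
      rintro x ⟨hx, hxp⟩
      refine ⟨hH x hx, ?_⟩
      have hp' : b⁻¹ * p * b = p := by rw [mul_assoc, ← hp, inv_mul_cancel_left]
      calc b * x * b⁻¹ * p * (b * x * b⁻¹)⁻¹ = b * (x * (b⁻¹ * p * b) * x⁻¹) * b⁻¹ := by group
        _ = r := by rw [hp', hxp, hr, mul_inv_cancel_right]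
    obtain ⟨a, ha⟩ := (h2.to_le (inf_le_left : H ⊓ centralizer ({p} : Set G) ≤ H)).exists_card_eq
    have hc : S.ncard = 2 ^ a := by
      rw [← ha, ← Nat.card_coe_set_eq]
      refine Nat.card_congr ⟨fun x => ⟨y⁻¹ * x, ⟨H.mul_mem (H.inv_mem hy) x.2.1, mem_centralizer_singleton_iff.2 ?_⟩⟩,
        fun x => ⟨y * x, ⟨H.mul_mem hy x.2.1, ?_⟩⟩, fun x => Subtype.ext (mul_inv_cancel_left y _),
        fun x => Subtype.ext (inv_mul_cancel_left y _)⟩
      · refine mul_inv_eq_iff_eq_mul.1 ?_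
        calc y⁻¹ * (x : G) * p * (y⁻¹ * (x : G))⁻¹ = y⁻¹ * ((x : G) * p * (x : G)⁻¹) * y := by group
          _ = p := by rw [x.2.2, ← hyp]; group
      · calc y * (x : G) * p * (y * (x : G))⁻¹ = y * ((x : G) * p * (x : G)⁻¹) * y⁻¹ := by group
          _ = r := by rw [mul_inv_eq_iff_eq_mul.2 (mem_centralizer_singleton_iff.1 x.2.2), hyp]
    obtain ⟨x, hx, hxb⟩ := exists_fixed_seven E.pow7 S hS hc
    exact ⟨x, hx.1, hxb, hx.2⟩
  have hbz := E.bz
  have hbzq : b * (z * q) = z * q * b := by rw [← mul_assoc, hbz, mul_assoc, ← hbq, mul_assoc]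
  obtain ⟨y, hy, hyb, hyq⟩ := key Q q (z * q) (fun x hx => D.core.norm b hbz x hx) D.half.two hbq.symm hbzq
    hd.exists_move
  obtain ⟨y', hy', hy'b, hy'z⟩ := key Q' z (q * z) (fun x hx => hd.right.norm b hbq.symm x hx) hd.right.two hbz
    (by rw [← mul_assoc, ← hbq, mul_assoc, hbz, mul_assoc]) hd.symm.exists_move
  refine ⟨y⁻¹ * y', ?_, ?_⟩
  · calc y⁻¹ * y' * b = y⁻¹ * (b * y') := by rw [mul_assoc, hy'b]
      _ = y⁻¹ * (b * y) * y⁻¹ * y' := by group
      _ = b * (y⁻¹ * y') := by rw [hyb]; group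
  · calc y⁻¹ * y' * z * (y⁻¹ * y')⁻¹ = y⁻¹ * (y' * z * y'⁻¹) * y := by group
      _ = y⁻¹ * (z * q) * y := by rw [hy'z, D.half.cz q hqQ]
      _ = q := by rw [← hyq]; group

end Elt

end

end CfsgLib.Spor.MonsterType.Seven
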