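import Cfsg.Agent.Lib.Spor.MonsterType.Seven.Cross

/-!
# Finite checks for the action on the seven classes
-/

set_option autoImplicit false

namespace CfsgLib.Spor.MonsterType.Seven

open CfsgLib.Spor CfsgLib.Spor.Leech
open Cfsg (GolayPt)

/-- The seven classes in the order of the extra element. -/
def cSeq : List ℕ := [32, 54, 12, 44, 26, 22, 58]

/-- The class with given coordinates. -/
def uOf (a : Fin 3 → ZMod 2) : ℕ :=
  (if a 0 = 1 then 32 else 0) ^^^ (if a 1 = 1 then 12 else 0) ^^^ (if a 2 = 1 then 22 else 0)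

/-- The invariant sign sets. -/
def fixMasks : List ℕ := [0, 15864000, 902657, 10558, 16766657, 15874558, 913215, 16777215]

set_option maxRecDepth 100000

theorem uOf_facts : (∀ a b : Fin 3 → ZMod 2, uOf (a + b) = uOf a ^^^ uOf b) ∧
    (∀ a b : Fin 3 → ZMod 2, uOf a = uOf b → a = b) ∧
    (∀ a : Fin 3 → ZMod 2, uOf a = 0 ∨ uOf a ∈ cSeq) ∧
    (∀ i : Fin 7, ∃ a : Fin 3 → ZMod 2, uOf a = cSeq.getD i 0) ∧ (∀ a : Fin 3 → ZMod 2, uOf a < 64) := by
  refine ⟨by decide +kernel, by decide +kernel, by decide +kernel, by decide +kernel, by decide +kernel⟩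

theorem seq_facts : (∀ i : Fin 7, cSeq.getD i 0 < 64) ∧ cSeq.getD 0 0 = 32 ∧
    (∀ i j : Fin 7, cSeq.getD i 0 = cSeq.getD j 0 → i = j) ∧
    (∀ n : Fin 64, (n : ℕ) ∈ longs → (n : ℕ) ∈ cSeq ∨ (n : ℕ) ∈ vList) ∧
    (∀ v ∈ vList, v ∉ cSeq ∧ v < 64) ∧
    six (repTab.getD 32 0) = Pi.single none 8 := by
  refine ⟨by decide +kernel, by decide +kernel, by decide +kernel, by decide +kernel, by decide +kernel,
    by decide +kernel⟩

theorem cImage_facts : ∀ i : Fin 7,
    congTest (six (repTab.getD (cSeq.getD ((i + 1 : Fin 7) : ℕ) 0) 0))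
      (matVec cTab (six (repTab.getD (cSeq.getD i 0) 0))) = true := by decide +kernel

theorem yImage_facts : ∀ v ∈ vList, ∃ i : Fin 7,
    congTest (six (repTab.getD v 0)) (matVec yTab (six (repTab.getD (cSeq.getD i 0) 0))) = true := by decide +kernel

theorem fixMask_facts : codeList.all (fun m => !(permMask sevenElt m == m) || fixMasks.contains m) = true ∧
    fixMasks.all (fun m => codeTest m && (permMask sevenElt m == m) && decide (m < 2 ^ 24)) = true ∧
    fixMasks.Nodup ∧ fixMasks.length = 8 := by
  refine ⟨by decide +kernel, by decide +kernel, by decide +kernel, by decide +kernel⟩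

/-- The image of a vector under a signed permutation with inverse code `code` and sign mask `m`. -/
def signTest (code m : ℕ) (u : Par) : Bool :=
  congTest (six u) fun p => if m.testBit (ptIdx p) then -six u (fnPt code p) else six u (fnPt code p)

theorem kernel_facts : centLit.all (fun code => fixMasks.all fun m =>
    !(signTest code m (repTab.getD 32 0) && signTest code m (repTab.getD 12 0) && signTest code m (repTab.getD 22 0)) ||
      ((m == 0 || m == 16777215) && sevenPows.contains code)) = true := by decide +kernel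

end CfsgLib.Spor.MonsterType.Seven
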