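import Cfsg.Agent.Lib.Spor.MonsterType.Seven.ActFacts

/-!
# The centralizer of the element of order seven acts as SL(3, 2) on seven classes
-/

set_option autoImplicit false

namespace CfsgLib.Spor.MonsterType.Seven

open Subgroup CfsgLib.Spor CfsgLib.Spor.Leech
open Cfsg (leechLattice Co0 sqNorm GolayPt M24 supports golayCode)
open scoped Pointwise

noncomputable section

theorem rep_std : rep 32 = eight none := Subtype.ext (by
  rw [rep_coe (by norm_num), seq_facts.2.2.2.2.2]; rfl)

theorem leechTest_of_mem {x : GolayPt → ℤ} (h : x ∈ leechLattice) : leechTest x = true := by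
  obtain ⟨h1, h2, h3⟩ := mem_iff.1 h
  simp only [leechTest, Bool.and_eq_true, decide_eq_true_eq]
  refine ⟨h1, (word_mem_golayCode_iff _).1 ?_, h3⟩
  convert h2 using 1
  funext p
  simp only [word, digit, testBit_maskFn, ptIdx_lt, idxPt_ptIdx, decide_true, Bool.true_and, decide_eq_true_eq]
  rcases Int.emod_two_eq_zero_or_one (x p / 2) with h | h
  · rw [if_neg (by omega), (zmod2_cast_eq_zero _).2 h]
  · rw [if_pos h]
    obtain ⟨k, hk⟩ : ∃ k, x p / 2 = 1 + 2 * k := ⟨x p / 2 / 2, by omega⟩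
    rw [hk, Int.cast_add, Int.cast_one, (zmod2_cast_eq_zero (2 * k)).2 (by omega), add_zero]

theorem mem_long_seq (i : Fin 7) : cSeq.getD i 0 < 64 ∧
    Cong (rep (cSeq.getD i 0)) ((cAut ^ (i : ℕ)) • rep 32) := by
  refine ⟨seq_facts.1 i, ?_⟩
  obtain ⟨k, hk⟩ := i
  induction k with
  | zero =>
    rw [pow_zero, one_smul]
    exact seq_facts.2.1 ▸ Cong.refl _
  | succ k ih =>
    have hk' : k < 7 := by omega
    have e : (((⟨k, hk'⟩ : Fin 7) + 1 : Fin 7) : ℕ) = k + 1 := by
      rw [Fin.val_add, Fin.val_one, Nat.mod_eq_of_lt]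
      exact hk
    have h := cImage_facts ⟨k, hk'⟩
    simp only [e] at h
    rw [pow_succ', mul_smul]
    refine Cong.trans ?_ ((ih hk').smul cAut)
    refine cong_of_test ?_
    rw [rep_coe (seq_facts.1 ⟨k + 1, hk⟩), cAut, matAut_smul, rep_coe (seq_facts.1 ⟨k, hk'⟩)]
    exact h

theorem fixed_smul {x : Co0} (hx : x ∈ C0) {v : leechLattice} (hv : P • v = v) : P • (x • v) = x • v := by
  rw [← mul_smul, ← mem_C0.1 hx, mul_smul, hv]

theorem exists_image {x : Co0} (hx : x ∈ C0) {n : ℕ} (hn : n < 64) : ∃ m < 64, Cong (rep m) (x • rep n) :=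
  exists_class (fixed_smul hx (rep_fixed hn))

/-- The orbit of the standard class. -/
theorem orbit_std {x : Co0} (hx : x ∈ C0) : ∃ i : Fin 7, Cong (rep (cSeq.getD i 0)) (x • rep 32) := by
  obtain ⟨m, hm, hc⟩ := exists_image hx (show 32 < 64 by norm_num)
  have h64 : sqNorm (rep 32 : GolayPt → ℤ) = 64 := by rw [rep_std]; exact sqNorm_eight none
  have hl : m ∈ longs := (mem_longs_iff hm).2 (by
    rw [hc.norm_eq (rep_norm_le hm) (by rw [co0_norm, h64]), co0_norm, h64])
  rcases seq_facts.2.2.2.1 ⟨m, hm⟩ hl with h | h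
  · obtain ⟨i, hi, e⟩ := List.getElem_of_mem h
    refine ⟨⟨i, hi⟩, ?_⟩
    rw [List.getD_eq_getElem _ _ (by exact hi)]
    exact e ▸ hc
  · exfalso
    obtain ⟨i, hi⟩ := yImage_facts m h
    have hy : Cong (rep m) ((yAut * cAut ^ (i : ℕ)) • rep 32) := by
      rw [mul_smul]
      refine Cong.trans ?_ ((mem_long_seq i).2.smul yAut)
      refine cong_of_test ?_
      rw [rep_coe hm, yAut, matAut_smul, rep_coe (seq_facts.1 i)]
      exact hi
    set w := (yAut * cAut ^ (i : ℕ))⁻¹ * x with hw
    have hstd : Cong (eight none) (w • eight none) := by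
      rw [← rep_std, hw, mul_smul]
      refine Cong.trans ?_ (hc.smul _)
      have := hy.symm.smul (yAut * cAut ^ (i : ℕ))⁻¹
      rwa [inv_smul_smul] at this
    refine not_inverts (mem_crossStab_of_cong hstd) ?_
    have hc' : cAut ^ (i : ℕ) * P = P * cAut ^ (i : ℕ) :=
      (show Commute cAut P from mem_C0.1 cAut_mem).pow_left i
    have hy' : yAut⁻¹ * P * yAut = P⁻¹ := by
      have := congrArg (·⁻¹) yAut_inverts
      simp only [mul_inv_rev, inv_inv] at this
      calc yAut⁻¹ * P * yAut = yAut⁻¹ * (yAut * (P⁻¹ * yAut⁻¹)) * yAut := by rw [this]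
        _ = P⁻¹ := by group
    calc w * P * w⁻¹ = (cAut ^ (i : ℕ))⁻¹ * yAut⁻¹ * (x * P * x⁻¹) * yAut * cAut ^ (i : ℕ) := by rw [hw]; group
      _ = (cAut ^ (i : ℕ))⁻¹ * (yAut⁻¹ * P * yAut) * cAut ^ (i : ℕ) := by
          rw [mem_C0.1 hx, mul_inv_cancel_right]; group
      _ = ((cAut ^ (i : ℕ))⁻¹ * P * cAut ^ (i : ℕ))⁻¹ := by rw [hy']; group
      _ = P⁻¹ := by rw [mul_assoc, ← hc', inv_mul_cancel_left]

theorem preserves {x : Co0} (hx : x ∈ C0) (a : Fin 3 → ZMod 2) :
    ∃ b, Cong (rep (uOf b)) (x • rep (uOf a)) := by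
  rcases uOf_facts.2.2.1 a with h | h
  · refine ⟨a, ?_⟩
    rw [h, rep_zero, show x • (0 : leechLattice) = 0 from
      map_zero (AddMonoidHom.mk' (fun v : leechLattice => x • v) (co0_add x))]
    exact Cong.refl _
  · obtain ⟨i, hi, e⟩ := List.getElem_of_mem h
    have hi' : cSeq.getD i 0 = uOf a := by rw [List.getD_eq_getElem _ _ hi, e]
    obtain ⟨j, hj⟩ := orbit_std (mul_mem hx (pow_mem cAut_mem i))
    obtain ⟨b, hb⟩ := uOf_facts.2.2.2.1 j
    refine ⟨b, ?_⟩
    rw [hb]
    refine hj.trans ?_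
    rw [mul_smul]
    have h2 := (mem_long_seq ⟨i, hi⟩).2.symm.smul x
    simp only [hi'] at h2
    exact h2

/-- The action on the coordinates of the seven classes. -/
def act3 (x : C0) (a : Fin 3 → ZMod 2) : Fin 3 → ZMod 2 := (preserves x.2 a).choose

theorem act3_spec (x : C0) (a : Fin 3 → ZMod 2) : Cong (rep (uOf (act3 x a))) ((x : Co0) • rep (uOf a)) :=
  (preserves x.2 a).choose_spec

theorem act3_unique {x : C0} {a b : Fin 3 → ZMod 2} (h : Cong (rep (uOf b)) ((x : Co0) • rep (uOf a))) :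
    act3 x a = b :=
  uOf_facts.2.1 _ _ (rep_inj (uOf_facts.2.2.2.2 _) (uOf_facts.2.2.2.2 _) ((act3_spec x a).trans h.symm))

theorem uOf_add (a b : Fin 3 → ZMod 2) : Cong (rep (uOf (a + b))) (rep (uOf a) + rep (uOf b)) := by
  rw [uOf_facts.1]; exact (rep_xor (uOf_facts.2.2.2.2 a) (uOf_facts.2.2.2.2 b)).2

theorem act3_add (x : C0) (a b : Fin 3 → ZMod 2) : act3 x (a + b) = act3 x a + act3 x b :=
  act3_unique (((uOf_add _ _).trans ((act3_spec x a).add (act3_spec x b))).trans (by
    rw [← co0_add]; exact ((uOf_add a b).smul _).symm))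

/-- The action as linear maps. -/
def actLin : C0 →* ((Fin 3 → ZMod 2) →ₗ[ZMod 2] (Fin 3 → ZMod 2)) where
  toFun x := (AddMonoidHom.mk' (act3 x) (act3_add x)).toZModLinearMap 2
  map_one' := LinearMap.ext fun a => act3_unique (by rw [OneMemClass.coe_one, one_smul]; exact Cong.refl _)
  map_mul' x y := LinearMap.ext fun a => act3_unique (by
    rw [coe_mul, mul_smul]
    exact (act3_spec x _).trans ((act3_spec y a).smul _))

theorem actLin_apply (x : C0) (a : Fin 3 → ZMod 2) : actLin x a = act3 x a := rfl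

theorem zmod_two_eq_one : ∀ a b : ZMod 2, a * b = 1 → a = 1 := by decide

/-- The action as matrices. -/
def actSL : C0 →* Matrix.SpecialLinearGroup (Fin 3) (ZMod 2) :=
  MonoidHom.mk' (fun x => ⟨LinearMap.toMatrixAlgEquiv' (actLin x), zmod_two_eq_one _
    (LinearMap.toMatrixAlgEquiv' (actLin x⁻¹)).det (by
      rw [← Matrix.det_mul, ← map_mul, ← map_mul, mul_inv_cancel, map_one, map_one, Matrix.det_one])⟩)
    fun x y => Subtype.ext (by
      show LinearMap.toMatrixAlgEquiv' (actLin (x * y)) = _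
      rw [map_mul, map_mul]; rfl)

theorem actSL_eq_one {x : C0} : actSL x = 1 ↔ ∀ a, Cong (rep (uOf a)) ((x : Co0) • rep (uOf a)) := by
  have e : actSL x = 1 ↔ actLin x = 1 := by
    refine Subtype.ext_iff.trans ?_
    show LinearMap.toMatrixAlgEquiv' (actLin x) = 1 ↔ _
    exact map_eq_one_iff LinearMap.toMatrixAlgEquiv' LinearMap.toMatrixAlgEquiv'.injective
  rw [e]
  constructor
  · intro h a
    have h2 := act3_spec x a
    rw [← actLin_apply, h] at h2
    exact h2
  · exact fun h => LinearMap.ext fun a => act3_unique (h a)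

/-! ### The cross stabiliser inside the centralizer -/

theorem perm_code {τ : Equiv.Perm GolayPt} (hτ : τ ∈ M24) (h : τ * sigma = sigma * τ) :
    ∃ code ∈ centLit, permOf code = τ :=
  exists_centLit hτ h

theorem mask_code {c : Finset GolayPt} (hc : c ∈ supports (golayCode : Set (GolayPt → ZMod 2)))
    (h : ∀ p, (sigma p ∈ c ↔ p ∈ c)) : ∃ m ∈ fixMasks, pts m = c := by
  refine ⟨maskPts c, ?_, pts_maskPts c⟩
  have e : permMask sevenElt (maskPts c) = maskPts c := by
    refine eq_of_pts_eq (permMask_lt sevenElt_code _) (maskPts_lt c) ?_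
    rw [← smul_pts sevenElt_code, pts_maskPts]
    ext p
    obtain ⟨q, rfl⟩ := sigma.surjective p
    rw [h q]
    exact Finset.smul_mem_smul_finset_iff (permOf sevenElt)
  have := List.all_eq_true.1 fixMask_facts.1 _ ((mem_supports_iff c).1 hc)
  simp only [Bool.or_eq_true, Bool.not_eq_true', beq_eq_false_iff_ne, List.contains_iff_mem] at this
  exact this.resolve_left fun h' => h' e

theorem mask_facts {m : ℕ} (hm : m ∈ fixMasks) : pts m ∈ supports (golayCode : Set (GolayPt → ZMod 2)) ∧
    (∀ p, (sigma p ∈ pts m ↔ p ∈ pts m)) ∧ m < 2 ^ 24 := by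
  have h := List.all_eq_true.1 fixMask_facts.2.1 m hm
  simp only [Bool.and_eq_true, beq_iff_eq, decide_eq_true_eq] at h
  refine ⟨pts_supports h.1.1, fun p => ?_, h.2⟩
  have e : permOf sevenElt • pts m = pts m := by rw [smul_pts sevenElt_code, h.1.2]
  conv_lhs => rw [← e]
  exact Finset.smul_mem_smul_finset_iff (permOf sevenElt)

theorem code_facts {code : ℕ} (h : code ∈ centLit) : isPermCode code = true ∧ permOf code ∈ M24 ∧
    permMulCode idPacked code = code ∧ permOf code * sigma = sigma * permOf code := by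
  have h' := List.all_eq_true.1 centLit_facts.2.2 code h
  simp only [Bool.and_eq_true, beq_iff_eq] at h'
  exact ⟨isPermCode_of_isM24Code h'.1.1, permOf_mem_M24 h'.1.1, h'.1.2,
    eq_mul_of_commCodes (isPermCode_of_isM24Code h'.1.1) sevenElt_code h'.2⟩

theorem sevenPows_perm {code : ℕ} (h : code ∈ sevenPows) : ∃ k : ℕ, permOf code = sigma ^ k := by
  obtain ⟨k, hk, rfl⟩ := List.getElem_of_mem h
  refine ⟨k, ?_⟩
  have hk7 : k < 7 := hk
  rw [← List.getD_eq_getElem _ 0 hk, sevenPows_eq hk7, (permOf_powCode sevenElt_code k).1]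
  rfl

theorem kernel_cases (x : C0) (hx : actSL x = 1) : ∃ k : ℕ, (x : Co0) = P ^ k ∨ (x : Co0) = negAut * P ^ k := by
  rw [actSL_eq_one] at hx
  have hu : ∀ n ∈ ([32, 12, 22] : List ℕ), Cong (rep n) ((x : Co0) • rep n) := fun n hn => by
    fin_cases hn
    · simpa [uOf] using hx ![1, 0, 0]
    · simpa [uOf] using hx ![0, 1, 0]
    · simpa [uOf] using hx ![0, 0, 1]
  have h32 := hu 32 (by simp)
  rw [rep_std] at h32
  obtain ⟨τ, hτ, c, hc, e⟩ := exists_monoAut (mem_crossStab_of_cong h32)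
  obtain ⟨h1, h2⟩ := (mono_comm_iff hτ hc).1 (e ▸ x.2)
  have h1' : τ⁻¹ * sigma = sigma * τ⁻¹ := by
    calc τ⁻¹ * sigma = τ⁻¹ * (sigma * τ) * τ⁻¹ := by group
      _ = sigma * τ⁻¹ := by rw [← h1]; group
  obtain ⟨code, hcode, hcperm⟩ := perm_code (M24.inv_mem hτ) h1'
  obtain ⟨m, hm, rfl⟩ := mask_code hc h2
  have hsig : ∀ p, τ.symm p = fnPt code p := fun p => by
    rw [← Equiv.Perm.inv_def, ← hcperm]; exact permOf_apply (code_facts hcode).1 p
  have key : ∀ n ∈ ([32, 12, 22] : List ℕ), signTest code m (repTab.getD n 0) = true := fun n hn => by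
    have hn64 : n < 64 := by fin_cases hn <;> norm_num
    have hcg := hu n hn
    rw [e] at hcg
    have e' : ((monoAut hτ hc • rep n : leechLattice) : GolayPt → ℤ) = fun p =>
        if m.testBit (ptIdx p) then -six (repTab.getD n 0) (fnPt code p) else six (repTab.getD n 0) (fnPt code p) := by
      funext p
      rw [monoAut_smul, Cfsg.signedPerm, hsig, rep_coe hn64]
      simp only [mem_pts]
    simp only [signTest, congTest, Bool.and_eq_true, decide_eq_true_eq]
    refine ⟨fun p => ?_, ?_⟩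
    · have := test_of_cong hcg p
      rwa [rep_coe hn64, e'] at this
    · obtain ⟨a, ha⟩ := hcg
      refine leechTest_of_mem ?_
      have : (fun p => ((if m.testBit (ptIdx p) then -six (repTab.getD n 0) (fnPt code p)
          else six (repTab.getD n 0) (fnPt code p)) - six (repTab.getD n 0) p) / 2) = (a : GolayPt → ℤ) := by
        funext p
        have := congrFun (congrArg Subtype.val ha) p
        simp only [AddSubgroup.coe_add, Pi.add_apply, e', rep_coe hn64] at this
        rw [this]; omega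
      rw [this]; exact a.2
  have hk := List.all_eq_true.1 (List.all_eq_true.1 kernel_facts code hcode) m hm
  simp only [key 32 (by simp), key 12 (by simp), key 22 (by simp), Bool.and_self, Bool.not_true, Bool.false_or,
    Bool.and_eq_true, Bool.or_eq_true, beq_iff_eq, List.contains_iff_mem] at hk
  obtain ⟨k, hk'⟩ := sevenPows_perm hk.2
  have hτk : τ = sigma ^ (6 * k) := by
    have h7 : sigma ^ (6 * k) * sigma ^ k = 1 := by
      rw [← pow_add, show 6 * k + k = 7 * k by ring, pow_mul, sigma_pow_seven, one_pow]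
    rw [← inv_inv τ, ← hcperm, hk', inv_eq_of_mul_eq_one_left h7]
  refine ⟨6 * k, ?_⟩
  have hP : P ^ (6 * k) = prmAut hτ := by
    rw [P_pow]
    exact prmAut_congr (hσ := (⟨sigma, sigma_mem⟩ ^ (6 * k) : M24).2) hτk.symm
  rw [e, hP]
  rcases hk.1 with rfl | rfl
  · left
    exact co0_eq fun v i => by simp [monoAut_smul, prmAut_smul, Cfsg.signedPerm, pts_zero_eq]
  · right
    refine co0_eq fun v i => ?_
    rw [mul_smul, negAut_smul]
    have : i ∈ pts 16777215 := mem_pts.2 (fullMask_testBit _ (ptIdx_lt i))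
    simp [monoAut_smul, prmAut_smul, Cfsg.signedPerm, this]

/-- The candidates: a power of the extra element times a monomial element. -/
theorem card_C0 : 2352 ≤ Nat.card C0 := by
  classical
  let f : Fin 7 × ↥centLit.toFinset × ↥fixMasks.toFinset → C0 := fun t =>
    ⟨cAut ^ (t.1 : ℕ) * monoAut (code_facts (List.mem_toFinset.1 t.2.1.2)).2.1
        (mask_facts (List.mem_toFinset.1 t.2.2.2)).1,
      mul_mem (pow_mem cAut_mem _) ((mono_comm_iff _ _).2
        ⟨(code_facts (List.mem_toFinset.1 t.2.1.2)).2.2.2, (mask_facts (List.mem_toFinset.1 t.2.2.2)).2.1⟩)⟩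
  have hf : Function.Injective f := by
    rintro ⟨i, a, b⟩ ⟨j, a', b'⟩ h
    have h' := congrArg Subtype.val h
    have key : ∀ (i : Fin 7) (g : Co0), g ∈ crossStab →
        Cong (rep (cSeq.getD i 0)) ((cAut ^ (i : ℕ) * g) • rep 32) := fun i g hg => by
      rw [mul_smul, rep_std]
      exact (rep_std ▸ (mem_long_seq i).2).trans ((cong_of_mem_crossStab hg).smul _)
    have k1 := key i _ (monoAut_preserves (code_facts (List.mem_toFinset.1 a.2)).2.1
      (mask_facts (List.mem_toFinset.1 b.2)).1)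
    have k2 := key j _ (monoAut_preserves (code_facts (List.mem_toFinset.1 a'.2)).2.1
      (mask_facts (List.mem_toFinset.1 b'.2)).1)
    simp only [f] at h'
    rw [h'] at k1
    have hij : i = j := seq_facts.2.2.1 i j (rep_inj (seq_facts.1 i) (seq_facts.1 j) (k1.trans k2.symm))
    subst hij
    obtain ⟨e1, e2⟩ := monoAut_inj (mul_left_cancel h')
    have ha := code_facts (List.mem_toFinset.1 a.2)
    have ha' := code_facts (List.mem_toFinset.1 a'.2)
    refine Prod.ext rfl (Prod.ext (Subtype.ext (permOf_inj_normal ha.1 ha'.1 ha.2.2.1 ha'.2.2.1 e1)) (Subtype.ext ?_))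
    exact eq_of_pts_eq (mask_facts (List.mem_toFinset.1 b.2)).2.2 (mask_facts (List.mem_toFinset.1 b'.2)).2.2 e2
  refine le_trans (le_of_eq ?_) (Nat.card_le_card_of_injective f hf)
  rw [Nat.card_prod, Nat.card_prod, Nat.card_eq_fintype_card, Nat.card_eq_fintype_card, Nat.card_eq_fintype_card,
    Fintype.card_fin, Fintype.card_coe, Fintype.card_coe, List.toFinset_card_of_nodup centLit_facts.2.1,
    List.toFinset_card_of_nodup fixMask_facts.2.2.1, centLit_facts.1, fixMask_facts.2.2.2]

theorem card_SL : Nat.card (Matrix.SpecialLinearGroup (Fin 3) (ZMod 2)) = 168 := by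
  rw [Nat.card_eq_fintype_card]; decide +kernel

theorem card_ker : Nat.card actSL.ker ≤ 14 := by
  classical
  let g : Fin 7 × Bool → Co0 := fun t => (if t.2 then negAut else 1) * P ^ (t.1 : ℕ)
  have h : ∀ x : actSL.ker, ∃ t, ((x : C0) : Co0) = g t := fun x => by
    obtain ⟨k, hk⟩ := kernel_cases x x.2
    have e : P ^ k = P ^ (k % 7) := by
      conv_lhs => rw [← Nat.mod_add_div k 7, pow_add, pow_mul, P_pow_seven, one_pow, mul_one]
    rcases hk with hk | hk
    · exact ⟨(⟨k % 7, Nat.mod_lt _ (by norm_num)⟩, false), by simp [g, hk, e]⟩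
    · exact ⟨(⟨k % 7, Nat.mod_lt _ (by norm_num)⟩, true), by simp [g, hk, e]⟩
  choose t ht using h
  refine le_trans (Nat.card_le_card_of_injective t fun a b hab => ?_) (le_of_eq (by simp [Nat.card_eq_fintype_card]))
  exact Subtype.ext (Subtype.ext (by rw [ht, ht, hab]))

theorem actSL_surjective : Function.Surjective actSL := by
  refine MonoidHom.range_eq_top.1 (eq_top_of_le_card _ ?_)
  have hk := actSL.ker.card_mul_index
  rw [index_ker] at hk
  have h1 := card_C0
  have h2 := card_ker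
  rw [card_SL]
  nlinarith

end

end CfsgLib.Spor.MonsterType.Seven
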