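import Cfsg.Agent.Lib.Spor.MonsterType.Seven.Held
import Cfsg.Agent.Lib.Spor.LargeExtraInvolution
import Cfsg.Agent.Lib.Coprime.Component
import Cfsg.Prelude.Def_Local

/-!
# The layer of the centralizer of the element of order seven
-/

set_option autoImplicit false

namespace CfsgLib.Spor.MonsterType.Seven

open Subgroup CfsgLib.Spor CfsgLib.Spor.Leech
open scoped commutatorElement
open Cfsg (leechLattice Co0 sqNorm GolayPt dotInt)

noncomputable section

variable {G : Type*} [Group G] [Finite G] {z : G} {Q : Subgroup G} {R : leechLattice → G → Prop}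
  {π : ↥(centralizer ({z} : Set G)) →* Cfsg.Spor.Co1} {D : Data z Q R π} {b : G}

theorem pair_dot : dotInt (six (repTab.getD 17 0)) (six (repTab.getD 32 0)) = 40 := by decide +kernel

variable (E : Elt D b)
include E

theorem Elt.pow_seven_of_zpowers {x : G} (hx : x ∈ zpowers b) : x ^ 7 = 1 := by
  obtain ⟨i, rfl⟩ := mem_zpowers_iff.1 hx
  rw [← zpow_natCast, ← zpow_mul, mul_comm, zpow_mul, zpow_natCast, E.pow7, one_zpow]

theorem Elt.z_notMem_zpowers : z ∉ zpowers b := fun h =>
  D.z_ne (eq_one_of_four (E.pow_seven_of_zpowers h) (E.pow_four D.core.mem))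

theorem Elt.elt_sq {t : ℕ × Bool} (ht : t.1 < 64) (hl : t.1 ∈ longs) : elt D t * elt D t = 1 := by
  obtain ⟨-, c, -, hc⟩ := E.conj_in_centralizer ht hl
  rw [← hc, show c * z * c⁻¹ * (c * z * c⁻¹) = c * (z * z) * c⁻¹ by group, D.zz]; group

/-- Two long fixed points that do not commute. -/
theorem Elt.elt_noncomm : elt D (17, false) * elt D (32, false) ≠ elt D (32, false) * elt D (17, false) := by
  intro h
  have h17 := pick_spec D 17
  have h32 := pick_spec D 32
  have := (D.comm_iff h32 h17 (E.elt_sq (t := (32, false)) (by norm_num) (by decide))).1 h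
  rw [rep_coe (by norm_num), rep_coe (by norm_num), pair_dot] at this
  norm_num at this

/-- A normal subgroup of the centralizer not inside `⟨b⟩` contains `z`. -/
theorem Elt.z_mem_normal (N : Subgroup ↥(centralizer (zpowers b : Set G))) [hN : N.Normal]
    (hne : ∃ x ∈ N, (x : G) ∉ zpowers b) :
    (⟨z, mem_cent_zpowers.2 E.bz.symm⟩ : ↥(centralizer (zpowers b : Set G))) ∈ N := by
  classical
  set zM : ↥(centralizer (zpowers b : Set G)) := ⟨z, mem_cent_zpowers.2 E.bz.symm⟩ with hzM
  set B' := (zpowers b).subgroupOf (centralizer (zpowers b : Set G)) with hB'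
  have hbM : ∀ x : ↥(centralizer (zpowers b : Set G)), ∀ y : G, y ∈ zpowers b → (x : G) * y = y * x := fun x y hy => by
    obtain ⟨i, rfl⟩ := mem_zpowers_iff.1 hy
    exact (show Commute (x : G) b from mem_cent_zpowers.1 x.2).zpow_right i
  haveI : B'.Normal := ⟨fun n hn g => mem_subgroupOf.2 (by
    have e : (g : G) * n * (g : G)⁻¹ = n := by rw [hbM g _ (mem_subgroupOf.1 hn), mul_inv_cancel_right]
    show (g : G) * n * (g : G)⁻¹ ∈ zpowers b
    rw [e]; exact mem_subgroupOf.1 hn)⟩
  suffices key : ∀ K : Subgroup ↥(centralizer (zpowers b : Set G)), K.Normal → B' ≤ K → (∃ x ∈ K, (x : G) ∉ zpowers b) → zM ∈ K by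
    obtain ⟨x, hx, hxb⟩ := hne
    have h := key (N ⊔ B') inferInstance le_sup_right ⟨x, mem_sup_left hx, hxb⟩
    obtain ⟨n, hn, β, hβ, e⟩ := mem_sup_of_normal_right.1 h
    have hc : Commute (n : ↥(centralizer (zpowers b : Set G))) β := Subtype.ext (hbM n β (mem_subgroupOf.1 hβ))
    have e7 : zM = n ^ 7 := by
      have h1 : (n * β) ^ 7 = n ^ 7 := by
        rw [hc.mul_pow, show β ^ 7 = 1 from Subtype.ext (by
          rw [coe_pow]; exact E.pow_seven_of_zpowers (mem_subgroupOf.1 hβ)), mul_one]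
      rw [← h1, e]
      refine Subtype.ext ?_
      show z = ((zM ^ 7 : ↥(centralizer (zpowers b : Set G))) : G)
      rw [coe_pow, hzM, show 7 = 2 * 3 + 1 from rfl, pow_succ, pow_mul, pow_two, D.zz, one_pow, one_mul]
    exact e7 ▸ pow_mem hn 7
  clear hne hN N
  intro N hN hBN ⟨x₀, hx₀, hx₀b⟩
  by_contra hz
  have hfM : ∀ q ∈ fixed Q b, q ∈ centralizer (zpowers b : Set G) := fun q hq => mem_cent_zpowers.2 (mem_centralizer_singleton_iff.1 hq.2)
  have hfN : ∀ d, ∀ hd : d ∈ fixed Q b, (⟨d, hfM d hd⟩ : ↥(centralizer (zpowers b : Set G))) ∈ N → d = 1 := by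
    intro d hd hdN
    by_contra hd1
    obtain ⟨r, hr, hrd⟩ : ∃ r ∈ fixed Q b, r * d ≠ d * r := by
      by_contra hall
      push Not at hall
      rcases E.fixed_center hd hall with e | e
      · exact hd1 e
      · refine hz ?_
        subst e
        exact hdN
    have hcN := mul_mem (hN.conj_mem _ hdN ⟨r, hfM r hr⟩) (inv_mem hdN)
    rcases D.half.comm r hr.1 d hd.1 with e | e
    · exact hrd (mul_inv_eq_iff_eq_mul.1 (mul_inv_eq_one.1 e))
    · refine hz ?_
      convert hcN using 1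
      exact Subtype.ext e.symm
  have step : ∀ x ∈ N, (x : G) * z = z * x → (x : G) ∈ zpowers b := by
    intro x hx hxz
    have hxD : (x : G) ∈ D0 z b :=
      ⟨mem_centralizer_singleton_iff.2 hxz, mem_centralizer_singleton_iff.2 (mem_cent_zpowers.1 x.2)⟩
    have hc : ∀ r ∈ fixed Q b, r * (x : G) = x * r := by
      intro r hr
      have hxr : (x : G) * r * (x : G)⁻¹ ∈ fixed Q b :=
        ⟨D.core.norm _ hxz r hr.1, Subgroup.mul_mem _ (Subgroup.mul_mem _ hxD.2 hr.2) (Subgroup.inv_mem _ hxD.2)⟩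
      have hd : (x : G) * r * (x : G)⁻¹ * r⁻¹ ∈ fixed Q b := mul_mem hxr (inv_mem hr)
      have hdN : (⟨_, hfM _ hd⟩ : ↥(centralizer (zpowers b : Set G))) ∈ N := by
        have := mul_mem hx (hN.conj_mem _ (inv_mem hx) ⟨r, hfM r hr⟩)
        convert this using 1
        refine Subtype.ext ?_
        show (x : G) * r * (x : G)⁻¹ * r⁻¹ = x * (r * (x : G)⁻¹ * r⁻¹)
        group
      exact (mul_inv_eq_iff_eq_mul.1 (mul_inv_eq_one.1 (hfN _ hd hdN))).symm
    obtain ⟨q, hq, k, e⟩ := (E.phi_eq_one_iff ⟨x, hxD⟩).1 (E.phi_of_centralizes ⟨x, hxD⟩ hc)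
    have e' : (x : G) = q * b ^ k := e
    have hqN : (⟨q, hfM q hq⟩ : ↥(centralizer (zpowers b : Set G))) ∈ N := by
      have hbk : (⟨b ^ k, mem_cent_zpowers.2 ((Commute.refl b).pow_left k)⟩ : ↥(centralizer (zpowers b : Set G))) ∈ N :=
        hBN (mem_subgroupOf.2 (pow_mem (mem_zpowers b) k))
      have := mul_mem hx (inv_mem hbk)
      convert this using 1
      exact Subtype.ext (by show q = (x : G) * (b ^ k)⁻¹; rw [e', mul_inv_cancel_right])
    rw [e', hfN q hq hqN, one_mul]
    exact pow_mem (mem_zpowers b) k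
  -- modulo `⟨b⟩`
  let pr : ↥(centralizer (zpowers b : Set G)) →* ↥(centralizer (zpowers b : Set G)) ⧸ B' := QuotientGroup.mk' B'
  haveI : (N.map pr).Normal := hN.map pr (QuotientGroup.mk'_surjective B')
  have hzz : pr zM * pr zM = 1 := by
    rw [← map_mul, show zM * zM = 1 from Subtype.ext D.zz, map_one]
  have hfix : ∀ k ∈ N.map pr, pr zM * k = k * pr zM → k = 1 := by
    rintro _ ⟨x, hx, rfl⟩ h
    rw [← map_mul, ← map_mul] at h
    have hb' : ((zM * x) * (x * zM)⁻¹ : ↥(centralizer (zpowers b : Set G))) ∈ B' :=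
      (QuotientGroup.eq_one_iff _).1 (show pr _ = 1 by rw [map_mul, map_inv, h, mul_inv_cancel])
    set β := z * (x : G) * ((x : G) * z)⁻¹ with hβ
    have hβb : β ∈ zpowers b := mem_subgroupOf.1 hb'
    have e1 : z * (x : G) = β * ((x : G) * z) := by rw [hβ, inv_mul_cancel_right]
    have hzβ : z * β = β * z := hbM zM β hβb
    have h2 : β * β = 1 := by
      have : (x : G) * z * z = β * β * ((x : G) * z * z) := by
        calc (x : G) * z * z = z * (z * x) := by rw [mul_assoc, D.zz, mul_one, ← mul_assoc, D.zz, one_mul]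
          _ = z * (β * ((x : G) * z)) := by rw [e1]
          _ = β * (z * x) * z := by rw [← mul_assoc, hzβ]; group
          _ = _ := by rw [e1]; group
      exact mul_eq_right.1 this.symm
    have hβ1 : β = 1 := eq_one_of_four (E.pow_seven_of_zpowers hβb) (by
      rw [show 4 = 2 * 2 from rfl, pow_mul, pow_two β, h2, one_pow])
    rw [hβ1, one_mul] at e1
    exact (QuotientGroup.eq_one_iff x).2 (mem_subgroupOf.2 (step x hx e1.symm))
  have hinv := LargeQ.inverts hzz (fun k hk => (inferInstance : (N.map pr).Normal).conj_mem k hk _) hfix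
  have hall : ∀ (c : ↥(centralizer (zpowers b : Set G))), ∀ k ∈ N.map pr, pr (c * zM * c⁻¹) * k * (pr (c * zM * c⁻¹))⁻¹ = k⁻¹ := by
    intro c k hk
    have := hinv _ ((inferInstance : (N.map pr).Normal).conj_mem k hk (pr c)⁻¹)
    rw [inv_inv] at this
    rw [map_mul, map_mul, map_inv]
    calc pr c * pr zM * (pr c)⁻¹ * k * (pr c * pr zM * (pr c)⁻¹)⁻¹
        = pr c * (pr zM * ((pr c)⁻¹ * k * pr c) * (pr zM)⁻¹) * (pr c)⁻¹ := by group
      _ = k⁻¹ := by rw [this]; group
  obtain ⟨-, c₁, hc₁, e₁⟩ := E.conj_in_centralizer (t := (32, false)) (by norm_num) (by decide)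
  obtain ⟨-, c₂, hc₂, e₂⟩ := E.conj_in_centralizer (t := (32, true)) (by norm_num) (by decide)
  have hprod : c₁ * z * c₁⁻¹ * (c₂ * z * c₂⁻¹) = z := by
    rw [e₁, e₂]
    show pick D 32 * (pick D 32 * z) = z
    rw [← mul_assoc, show pick D 32 * pick D 32 = 1 from E.elt_sq (t := (32, false)) (by norm_num) (by decide),
      one_mul]
  refine hx₀b ?_
  have hk : pr x₀ ∈ N.map pr := mem_map_of_mem pr hx₀
  suffices h : pr x₀ = 1 from mem_subgroupOf.1 ((QuotientGroup.eq_one_iff x₀).1 h)
  refine hfix _ hk ?_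
  let d₁ : ↥(centralizer (zpowers b : Set G)) := ⟨c₁, mem_cent_zpowers.2 hc₁⟩
  let d₂ : ↥(centralizer (zpowers b : Set G)) := ⟨c₂, mem_cent_zpowers.2 hc₂⟩
  have hz2 : (d₁ * zM * d₁⁻¹) * (d₂ * zM * d₂⁻¹) = zM := Subtype.ext hprod
  have h1 := hinv _ hk
  have h2 : pr zM * pr x₀ * (pr zM)⁻¹ = pr x₀ := by
    conv_lhs => rw [← hz2, map_mul pr (d₁ * zM * d₁⁻¹)]
    calc _ = pr (d₁ * zM * d₁⁻¹) * (pr (d₂ * zM * d₂⁻¹) * pr x₀ * (pr (d₂ * zM * d₂⁻¹))⁻¹) *
          (pr (d₁ * zM * d₁⁻¹))⁻¹ := by group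
      _ = pr x₀ := by rw [hall d₂ _ hk, hall d₁ _ (inv_mem hk), inv_inv]
  exact mul_inv_eq_iff_eq_mul.1 h2

/-- The layer contains `z` and a second long fixed point. -/
theorem Elt.mem_layer {B : Subgroup G} (hB : B = zpowers b) :
    z ∈ (Cfsg.layer ↥(centralizer (B : Set G))).map (centralizer (B : Set G)).subtype ∧
      elt D (32, false) ∈ (Cfsg.layer ↥(centralizer (B : Set G))).map (centralizer (B : Set G)).subtype := by
  subst hB
  classical
  set M := centralizer (zpowers b : Set G) with hM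
  set zM : ↥M := ⟨z, mem_cent_zpowers.2 E.bz.symm⟩ with hzM
  haveI := CfsgLib.Coprime.layer_normal (G := ↥M)
  have hconj : ∀ {n : ℕ}, n < 64 → n ∈ longs → ∀ (N : Subgroup ↥M), N.Normal → zM ∈ N →
      ∃ h : elt D (n, false) ∈ M, (⟨_, h⟩ : ↥M) ∈ N := by
    intro n hn hl N hN hz
    obtain ⟨-, c, hc, e⟩ := E.conj_in_centralizer (t := (n, false)) hn hl
    have hcM : c ∈ M := mem_cent_zpowers.2 hc
    refine ⟨mem_cent_zpowers.2 (mem_centralizer_singleton_iff.1 (E.elt_mem (t := (n, false)) hn).2), ?_⟩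
    convert hN.conj_mem zM hz ⟨c, hcM⟩ using 1
    exact Subtype.ext e.symm
  have hzL : zM ∈ Cfsg.layer ↥M := by
    by_cases hne : ∃ x ∈ Cfsg.layer ↥M, (x : G) ∉ zpowers b
    · exact E.z_mem_normal _ hne
    exfalso
    push Not at hne
    have hbot : Cfsg.layer ↥M = ⊥ := by
      rw [← CfsgLib.Coprime.layer_isPerfect (G := ↥M), commutator_eq_bot_iff_le_centralizer]
      intro x hx
      refine mem_centralizer_iff.2 fun y hy => Subtype.ext ?_
      obtain ⟨i, hi⟩ := mem_zpowers_iff.1 (hne x hx)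
      show (y : G) * x = x * y
      rw [← hi]
      exact (show Commute (y : G) b from mem_cent_zpowers.1 y.2).zpow_right i
    have hCF := CfsgLib.Coprime.centralizer_fitting_le_of_layer_eq_bot hbot
    haveI := CfsgLib.Coprime.fitting_normal (G := ↥M)
    haveI := CfsgLib.Coprime.fitting_isNilpotent (G := ↥M)
    set F := Cfsg.fittingSubgroup ↥M with hF
    by_cases hFb : ∃ x ∈ F, (x : G) ∉ zpowers b
    · have hzF : zM ∈ F := E.z_mem_normal F hFb
      set Z := normalClosure ({zM} : Set ↥M) with hZ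
      have hzZ : zM ∈ Z := subset_normalClosure rfl
      have hZF : Z ≤ F := normalClosure_le_normal (Set.singleton_subset_iff.2 hzF)
      obtain ⟨h17, m17⟩ := hconj (show 17 < 64 by norm_num) (by decide) Z inferInstance hzZ
      obtain ⟨h32, m32⟩ := hconj (show 32 < 64 by norm_num) (by decide) Z inferInstance hzZ
      have hzc : zM ∈ ⁅Z, Z⁆ := by
        convert commutator_mem_commutator m17 m32 using 1
        refine Subtype.ext ?_
        rcases D.half.comm _ (E.elt_mem (t := (17, false)) (by norm_num)).1 _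
          (E.elt_mem (t := (32, false)) (by norm_num)).1 with e | e
        · exact absurd (mul_inv_eq_iff_eq_mul.1 (mul_inv_eq_one.1 e)) E.elt_noncomm
        · exact e.symm
      have hperf : Z ≤ ⁅Z, Z⁆ := normalClosure_le_normal (Set.singleton_subset_iff.2 hzc)
      have hder : ∀ n, Z ≤ (derivedSeries F n).map F.subtype := by
        intro n
        induction n with
        | zero => rw [derivedSeries_zero, ← MonoidHom.range_eq_map, range_subtype]; exact hZF
        | succ n ih => rw [derivedSeries_succ, map_commutator]; exact hperf.trans (commutator_mono ih ih)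
      obtain ⟨n, hn⟩ := (inferInstance : Group.IsSolvable F).solvable
      have h0 := hder n hzZ
      rw [hn, Subgroup.map_bot, mem_bot] at h0
      exact D.z_ne (congrArg Subtype.val h0)
    · push Not at hFb
      refine E.z_notMem_zpowers (hFb zM (hCF (mem_centralizer_iff.2 fun x hx => Subtype.ext ?_)))
      obtain ⟨i, hi⟩ := mem_zpowers_iff.1 (hFb x hx)
      show (x : G) * z = z * x
      rw [← hi]
      exact (show Commute b z from E.bz).zpow_left i
  obtain ⟨h32, m32⟩ := hconj (show 32 < 64 by norm_num) (by decide) _ inferInstance hzL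
  exact ⟨⟨zM, hzL, rfl⟩, ⟨⟨_, h32⟩, m32, rfl⟩⟩

end

end CfsgLib.Spor.MonsterType.Seven
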