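import Cfsg.Agent.Lib.Spor.MonsterType.Seven.Held

/-!
# A Sylow 7-subgroup of the joint centralizer of two conjugates, in standard position
-/

set_option autoImplicit false

namespace CfsgLib.Spor.MonsterType.Seven

open Subgroup CfsgLib.Spor CfsgLib.Spor.Leech
open Cfsg (leechLattice Co0 sqNorm GolayPt M24)

noncomputable section

variable {G : Type*} [Group G] [Finite G] {z : G} {Q : Subgroup G} {R : leechLattice → G → Prop}
  {π : ↥(centralizer ({z} : Set G)) →* Cfsg.Spor.Co1}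

theorem crossMap_range_card (h : Co0) :
    ∃ a : ℕ, Nat.card (crossMap h).range * 2 ^ a = 4096 * 244823040 := by
  haveI : Fact (Nat.Prime 2) := ⟨Nat.prime_two⟩
  have hS : IsPGroup 2 signs := fun x => ⟨1, Subtype.ext (by
    rw [pow_one, coe_pow]; exact signs_sq x.2)⟩
  obtain ⟨a, ha⟩ := (hS.to_le (fun x hx => crossMap_ker h (MonoidHom.mem_ker.1 hx) :
    (crossMap h).ker ≤ signs)).exists_card_eq
  refine ⟨a, ?_⟩
  rw [← card_crossStab, ← (crossMap h).ker.card_mul_index, index_ker, ha, mul_comm]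

theorem fact_seven_pow_two (a : ℕ) : (2 ^ a).factorization 7 = 0 := by
  rw [Nat.factorization_pow, Finsupp.smul_apply, Nat.factorization_eq_zero_of_not_dvd (by norm_num), smul_zero]

theorem fact_seven_cross : (4096 * 244823040 : ℕ).factorization 7 = 1 := by
  rw [show (4096 * 244823040 : ℕ) = 7 * 143256453120 by norm_num, Nat.factorization_mul (by norm_num) (by norm_num),
    Finsupp.add_apply, Nat.Prime.factorization_self (by norm_num),
    Nat.factorization_eq_zero_of_not_dvd (by norm_num)]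

/-- An element of the cross stabiliser of order seven is conjugate to a power of the standard one. -/
theorem exists_conj_power {x : crossStab} (hx : x ^ 7 = 1) (hx1 : x ≠ 1) :
    ∃ k : Co0, ∃ i : ℕ, i % 7 ≠ 0 ∧ k ∈ crossStab ∧ k * (x : Co0) * k⁻¹ = P ^ i := by
  classical
  haveI : Fact (Nat.Prime 7) := ⟨by norm_num⟩
  let p0 : crossStab := ⟨P, monoAut_preserves sigma_mem Cfsg.Spor.empty_mem_supports_golayCode⟩
  have hexp : (Nat.card crossStab).factorization 7 = 1 := by rw [card_crossStab, fact_seven_cross]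
  have hp0 : orderOf p0 = 7 := by
    refine orderOf_eq_prime (Subtype.ext P_pow_seven) fun h => ?_
    have h' : prmHom ⟨sigma, sigma_mem⟩ = prmHom 1 := by
      rw [map_one]; exact congrArg Subtype.val h
    have := congrArg (fun g : M24 => (g : Equiv.Perm GolayPt)) (prmHom_injective h')
    have h7 := orderOf_sevenElt
    rw [show permOf sevenElt = (1 : Equiv.Perm GolayPt) from this, orderOf_one] at h7
    omega
  let S₁ : Sylow 7 crossStab := Sylow.ofCard (zpowers x)
    (by rw [Nat.card_zpowers, orderOf_eq_prime hx hx1, hexp, pow_one])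
  let S₂ : Sylow 7 crossStab := Sylow.ofCard (zpowers p0) (by rw [Nat.card_zpowers, hp0, hexp, pow_one])
  obtain ⟨k, hk⟩ := MulAction.exists_smul_eq crossStab S₁ S₂
  have hk' : (zpowers x).map (MulAut.conj k).toMonoidHom = zpowers p0 := congrArg Sylow.toSubgroup hk
  have hm : k * x * k⁻¹ ∈ zpowers p0 := by rw [← hk']; exact ⟨x, mem_zpowers x, rfl⟩
  rw [mem_zpowers_iff_mem_range_orderOf, hp0, Finset.mem_image] at hm
  obtain ⟨i, hi, he⟩ := hm
  rw [Finset.mem_range] at hi
  refine ⟨k, i, fun h0 => hx1 ?_, k.2, congrArg Subtype.val he.symm⟩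
  have hi0 : i = 0 := by omega
  rw [hi0, pow_zero] at he
  exact mul_left_cancel ((mul_inv_eq_one.1 he.symm).trans (mul_one k).symm)

theorem card_factor_seven (D : Data z Q R π) {g : G} (hgQ : g * z * g⁻¹ ∈ Q) (hne : g * z * g⁻¹ ≠ z) :
    (Nat.card ↥(centralizer ({z, g * z * g⁻¹} : Set G))).factorization 7 = 1 := by
  haveI : Fact (Nat.Prime 7) := ⟨by norm_num⟩
  haveI : Fact (Nat.Prime 2) := ⟨Nat.prime_two⟩
  set s := g * z * g⁻¹ with hs
  obtain ⟨h, v, -, himg, -⟩ := D.image_conjugate hgQ hne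
  set X := centralizer ({z} : Set G) ⊓ centralizer ({s} : Set G) with hX
  have hXeq : centralizer ({z, s} : Set G) = X := by
    ext c
    simp only [hX, mem_inf, mem_centralizer_iff, Set.mem_insert_iff, Set.mem_singleton_iff, forall_eq_or_imp,
      forall_eq]
  rw [hXeq]
  let X' := X.subgroupOf (centralizer ({z} : Set G))
  have hk := (π.comp X'.subtype).ker.card_mul_index
  rw [index_ker, MonoidHom.range_comp, range_subtype, himg,
    Nat.card_congr (subgroupOfEquivOfLe (inf_le_left : X ≤ centralizer ({z} : Set G))).toEquiv] at hk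
  have hker2 : IsPGroup 2 (π.comp X'.subtype).ker := by
    intro x
    obtain ⟨n, hn⟩ := D.half.two ⟨_, (D.kerπ _).1 x.2⟩
    refine ⟨n, Subtype.ext (Subtype.ext (Subtype.ext ?_))⟩
    have := congrArg Subtype.val hn
    simpa using this
  obtain ⟨c, hc⟩ := hker2.exists_card_eq
  obtain ⟨a, ha⟩ := crossMap_range_card h
  have hfac : (Nat.card X).factorization 7 = 1 := by
    have e1 := fact_seven_cross
    rw [← ha, Nat.factorization_mul Nat.card_pos.ne' (by positivity), Finsupp.add_apply, fact_seven_pow_two,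
      add_zero] at e1
    rw [← hk, Nat.factorization_mul Nat.card_pos.ne' Nat.card_pos.ne', Finsupp.add_apply, hc, fact_seven_pow_two,
      zero_add, e1]
  exact hfac

/-- Standard position, with the conjugate over the class of the standard cross. -/
theorem exists_standard_at (D : Data z Q R π) (hw : ∃ g : G, g * z * g⁻¹ ∈ Q ∧ g * z * g⁻¹ ≠ z) {g : G}
    (hgQ : g * z * g⁻¹ ∈ Q) (hne : g * z * g⁻¹ ≠ z) (B : Subgroup G)
    (hB : B ≤ centralizer ({z, g * z * g⁻¹} : Set G))
    (hBp : Nat.card B = 7 ^ (Nat.card ↥(centralizer ({z, g * z * g⁻¹} : Set G))).factorization 7) :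
    ∃ (R' : leechLattice → G → Prop) (π' : ↥(centralizer ({z} : Set G)) →* Cfsg.Spor.Co1)
      (D' : Data z Q R' π') (b : G), B = zpowers b ∧ Elt D' b ∧
        ∃ v : leechLattice, R' v (g * z * g⁻¹) ∧ Cong (eight none) v := by
  haveI : Fact (Nat.Prime 7) := ⟨by norm_num⟩
  haveI : Fact (Nat.Prime 2) := ⟨Nat.prime_two⟩
  rw [card_factor_seven D hgQ hne, pow_one] at hBp
  set s := g * z * g⁻¹ with hs
  obtain ⟨h, v, ⟨hv, hhv⟩, himg, -⟩ := D.image_conjugate hgQ hne
  set X := centralizer ({z} : Set G) ⊓ centralizer ({s} : Set G) with hX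
  have hXeq : centralizer ({z, s} : Set G) = X := by
    ext c
    simp only [hX, mem_inf, mem_centralizer_iff, Set.mem_insert_iff, Set.mem_singleton_iff, forall_eq_or_imp,
      forall_eq]
  rw [hXeq] at hB
  haveI : IsCyclic B := isCyclic_of_prime_card hBp
  obtain ⟨b0, hb0⟩ := IsCyclic.exists_generator (α := B)
  have hBb : B = zpowers (b0 : G) := by
    refine le_antisymm (fun x hx => ?_) (zpowers_le.2 b0.2)
    obtain ⟨i, hi⟩ := mem_zpowers_iff.1 (hb0 ⟨x, hx⟩)
    exact ⟨i, by simpa using congrArg Subtype.val hi⟩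
  have hord : orderOf (b0 : G) = 7 :=
    (Nat.card_zpowers _).symm.trans ((congrArg (fun H : Subgroup G => Nat.card H) hBb).symm.trans hBp)
  have hbX : (b0 : G) ∈ X := hB b0.2
  let bz : ↥(centralizer ({z} : Set G)) := ⟨b0, hbX.1⟩
  obtain ⟨x, hx⟩ : π bz ∈ (crossMap h).range := himg ▸ mem_map_of_mem π (mem_subgroupOf.2 hbX)
  have hb7 : bz ^ 7 = 1 := Subtype.ext (by
    show (b0 : G) ^ 7 = 1
    rw [← hord, pow_orderOf_eq_one])
  -- normalise the sign
  have hxc : (x : Co0) ^ 7 ∈ center Co0 := by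
    have h7 : crossMap h (x ^ 7) = 1 := by rw [map_pow, hx, ← map_pow, hb7, map_one]
    rw [crossMap_apply, QuotientGroup.eq_one_iff] at h7
    have := Subgroup.Normal.conj_mem inferInstance _ h7 h
    simpa [mul_assoc] using this
  have hsgn : negAut ∈ crossStab := monoAut_preserves M24.one_mem Cfsg.Spor.univ_mem_supports_golayCode
  have hneg : crossMap h ⟨negAut, hsgn⟩ = 1 := by
    rw [crossMap_apply, QuotientGroup.eq_one_iff]
    exact Subgroup.Normal.conj_mem' inferInstance _ negAut_central h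
  obtain ⟨y, hy7, hy⟩ : ∃ y : crossStab, y ^ 7 = 1 ∧ crossMap h y = π bz := by
    rcases mem_center_iff_eq.1 hxc with e | e
    · exact ⟨x, Subtype.ext (by rw [coe_pow, e]; rfl), hx⟩
    · refine ⟨x * ⟨negAut, hsgn⟩, Subtype.ext ?_, by rw [map_mul, hneg, mul_one, hx]⟩
      have h2 : negAut * negAut = 1 := sgnAut_sq Cfsg.Spor.univ_mem_supports_golayCode
      have h7 : negAut ^ 7 = negAut := by
        simp only [pow_succ, pow_zero, one_mul, mul_assoc, h2, mul_one]
      rw [coe_pow, coe_mul, (show Commute (x : Co0) negAut from mem_center_iff.1 negAut_central _).mul_pow, e, h7,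
        h2]
      rfl
  have hy1 : y ≠ 1 := fun e => by
    rw [e, map_one] at hy
    have hQ := (D.kerπ bz).1 hy.symm
    obtain ⟨n, hn⟩ := D.half.two ⟨_, hQ⟩
    have h2 : orderOf (b0 : G) ∣ 2 ^ n := orderOf_dvd_of_pow_eq_one (congrArg Subtype.val hn)
    rw [hord] at h2
    have := (Nat.prime_dvd_prime_iff_eq (by norm_num) Nat.prime_two).1 ((Fact.out : Nat.Prime 7).dvd_of_dvd_pow h2)
    omega
  obtain ⟨k, i, hi, hkc, hki⟩ := exists_conj_power hy7 hy1
  obtain ⟨j, hj⟩ : ∃ j : ℕ, i * j % 7 = 1 := by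
    have : ∀ r : Fin 7, (r : ℕ) ≠ 0 → ∃ j : Fin 7, (r : ℕ) * (j : ℕ) % 7 = 1 := by decide
    obtain ⟨j, hj⟩ := this ⟨i % 7, Nat.mod_lt _ (by norm_num)⟩ hi
    exact ⟨j, by rw [Nat.mul_mod]; rw [Nat.mul_mod] at hj; simpa using hj⟩
  have hj7 : j % 7 ≠ 0 := fun e => by rw [Nat.mul_mod, e] at hj; simp at hj
  have hgen : zpowers ((b0 : G) ^ j) = zpowers (b0 : G) := by
    refine le_antisymm (zpowers_le.2 (pow_mem (mem_zpowers _) j)) (zpowers_le.2 ⟨(i : ℤ), ?_⟩)
    show ((b0 : G) ^ j) ^ (i : ℤ) = _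
    rw [zpow_natCast, ← pow_mul, mul_comm, ← pow_mod_orderOf, hord, hj, pow_one]
  refine ⟨_, _, D.twist (k * h), (b0 : G) ^ j, hBb.trans hgen.symm, ⟨pow_mem hbX.1 j, ?_, ?_, hw⟩,
    (k * h) • v, by rw [inv_smul_smul]; exact hv, by rw [mul_smul, hhv]; exact cong_of_mem_crossStab hkc⟩
  · exact (Nat.card_zpowers _).symm.trans ((congrArg (fun H : Subgroup G => Nat.card H)
      (hgen.trans hBb.symm)).trans hBp)
  · show (QuotientGroup.mk (k * h) : Cfsg.Spor.Co1) * π _ * (QuotientGroup.mk (k * h) : Cfsg.Spor.Co1)⁻¹ = _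
    have e : π ⟨(b0 : G) ^ j, pow_mem hbX.1 j⟩ = crossMap h (y ^ j) := by
      rw [map_pow, hy, ← map_pow]
      rfl
    rw [e, crossMap_apply, ← QuotientGroup.mk_inv, ← QuotientGroup.mk_mul, ← QuotientGroup.mk_mul]
    refine congrArg _ ?_
    rw [show k * h * (h⁻¹ * ((y ^ j : crossStab) : Co0) * h) * (k * h)⁻¹ = k * ((y ^ j : crossStab) : Co0) * k⁻¹ by
      group, coe_pow, ← conj_pow, hki, ← pow_mul]
    conv_lhs => rw [← Nat.mod_add_div (i * j) 7, hj, pow_add, pow_mul, P_pow_seven, one_pow, mul_one, pow_one]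

theorem exists_standard (D : Data z Q R π) (hw : ∃ g : G, g * z * g⁻¹ ∈ Q ∧ g * z * g⁻¹ ≠ z) {g : G}
    (hgQ : g * z * g⁻¹ ∈ Q) (hne : g * z * g⁻¹ ≠ z) (B : Subgroup G)
    (hB : B ≤ centralizer ({z, g * z * g⁻¹} : Set G))
    (hBp : Nat.card B = 7 ^ (Nat.card ↥(centralizer ({z, g * z * g⁻¹} : Set G))).factorization 7) :
    ∃ (R' : leechLattice → G → Prop) (π' : ↥(centralizer ({z} : Set G)) →* Cfsg.Spor.Co1)
      (D' : Data z Q R' π') (b : G), B = zpowers b ∧ Elt D' b := by
  obtain ⟨R', π', D', b, hb, E, -⟩ := exists_standard_at D hw hgQ hne B hB hBp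
  exact ⟨R', π', D', b, hb, E⟩

end

end CfsgLib.Spor.MonsterType.Seven
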