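import Cfsg.Agent.Lib.Spor.MonsterType.Seven.Axes
import Cfsg.Agent.Lib.Spor.MonsterType.Seven.HeldLayer
import Cfsg.Agent.Lib.Spor.MonsterType.Seven.Main
import Cfsg.Agent.Lib.PGroup.ExtraspecialIndexP

/-!
# Automorphisms of the subgroup of order seven induced inside the centralizer of `z`
-/

set_option autoImplicit false

namespace CfsgLib.Spor.MonsterType.Seven

open Subgroup CfsgLib.Spor CfsgLib.Spor.Leech
open Cfsg (leechLattice Co0 sqNorm GolayPt M24 supports golayCode)

noncomputable section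

theorem axRow_inj {x y : GolayPt → ℤ} (h : axRow x = axRow y) : x = y := funext fun p => by
  have := congrArg (fun l => l.getD (ptIdx p) 0) h
  simpa [axRow, ptIdx_lt, idxPt_ptIdx] using this

/-- The vectors in the lattice. -/
def axVec (i : Fin 24) : leechLattice := ⟨axFn i, leechTest_spec (ax_facts.1 i)⟩

theorem axVec_cross {w : leechLattice} (hw : w ∈ crossIn (axVec 0)) : ∃ i, w = axVec i ∨ w = -axVec i := by
  classical
  let f : Fin 24 × Bool → leechLattice := fun t => if t.2 then -axVec t.1 else axVec t.1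
  have hne : ∀ i : Fin 24, axVec i ≠ -axVec i := fun i h => by
    have e : axFn i = -axFn i := congrArg Subtype.val h
    have hz : axFn i = 0 := funext fun p => by
      have := congrFun e p
      simp only [Pi.neg_apply] at this
      simp only [Pi.zero_apply]
      omega
    have := ax_facts.2.1 i
    simp [hz, sqNorm] at this
  have hij : ∀ i j : Fin 24, i ≠ j → axVec i ≠ axVec j ∧ axVec i ≠ -axVec j := fun i j h =>
    ⟨fun e => (ax_facts.2.2.2.1 i j h).1 (congrArg axRow (congrArg Subtype.val e)),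
      fun e => (ax_facts.2.2.2.1 i j h).2 (congrArg axRow (congrArg Subtype.val e))⟩
  have hf : Function.Injective f := by
    rintro ⟨i, a⟩ ⟨j, c⟩ e
    by_cases h : i = j
    · subst h
      cases a <;> cases c <;> simp [f] at e ⊢
      · exact hne i e
      · exact hne i e.symm
    · exfalso
      obtain ⟨h1, h2⟩ := hij i j h
      cases a <;> cases c <;> simp [f] at e
      · exact h1 e
      · exact h2 e
      · exact h2 (by rw [← e, neg_neg])
      · exact h1 e
  have hn : sqNorm (axVec 0 : GolayPt → ℤ) = 64 := ax_facts.2.1 0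
  have hsub : Set.range f ⊆ crossIn (axVec 0) := by
    rintro _ ⟨⟨i, a⟩, rfl⟩
    have hc : Cong (axVec 0) (axVec i) := cong_of_test (ax_facts.2.2.1 i)
    have hni : sqNorm (axVec i : GolayPt → ℤ) = 64 := ax_facts.2.1 i
    cases a
    · obtain ⟨u, hu⟩ := hc
      refine ⟨by rw [hn]; exact hni, -u, ?_⟩
      show axVec 0 - axVec i = 2 • -u
      rw [hu, two_nsmul]; abel
    · obtain ⟨u, hu⟩ := hc.trans (Cong.neg _)
      refine ⟨by rw [hn]; show sqNorm (-(axVec i : GolayPt → ℤ)) = 64; rw [← hni]; simp [sqNorm], -u, ?_⟩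
      show axVec 0 - -axVec i = 2 • -u
      rw [hu, two_nsmul]; abel
  have hfin : (crossIn (axVec 0)).Finite := Set.finite_of_ncard_ne_zero (by rw [ncard_crossIn hn]; norm_num)
  have heq := Set.eq_of_subset_of_ncard_le hsub (by
    rw [ncard_crossIn hn, ← Nat.card_coe_set_eq, Nat.card_range_of_injective hf]
    simp [Nat.card_eq_fintype_card]) hfin
  rw [← heq] at hw
  obtain ⟨⟨i, a⟩, rfl⟩ := hw
  cases a
  · exact ⟨i, Or.inl rfl⟩
  · exact ⟨i, Or.inr rfl⟩

theorem yAut_cross {w : leechLattice} (hw : w ∈ crossIn (axVec 0)) : yAut • w = w ∨ yAut • w = -w := by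
  have key : ∀ i, yAut • axVec i = axVec i ∨ yAut • axVec i = -axVec i := fun i => by
    rcases ax_facts.2.2.2.2 i with h | h
    · exact Or.inl (Subtype.ext (axRow_inj h))
    · exact Or.inr (Subtype.ext (axRow_inj h))
  obtain ⟨i, rfl | rfl⟩ := axVec_cross hw
  · exact key i
  · rw [co0_neg]
    rcases key i with e | e <;> rw [e]
    · exact Or.inl rfl
    · exact Or.inr rfl

theorem yAut_noncentral : (QuotientGroup.mk yAut : Cfsg.Spor.Co1) ≠ 1 := by
  intro h
  have hc := (QuotientGroup.eq_one_iff yAut).1 h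
  have e : ∀ g : Co0, g = yAut → ((g • eight none : leechLattice) : GolayPt → ℤ) none = tabEntry yTab none none :=
    fun g hg => by rw [hg, yAut, matAut_eight]
  rcases mem_center_iff_eq.1 hc with hy | hy
  · have := e 1 hy.symm
    rw [one_smul] at this
    refine yRow_zero.1 (this.symm.trans ?_)
    show (Pi.single none (8 : ℤ) : GolayPt → ℤ) none = 8
    rw [Pi.single_eq_same]
  · have := e negAut hy.symm
    rw [negAut_smul] at this
    refine yRow_zero.2 (this.symm.trans ?_)
    show -((Pi.single none (8 : ℤ) : GolayPt → ℤ) none) = -8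
    rw [Pi.single_eq_same]

variable {G : Type*} [Group G] [Finite G] {z : G} {Q : Subgroup G} {R : leechLattice → G → Prop}
  {π : ↥(centralizer ({z} : Set G)) →* Cfsg.Spor.Co1} {D : Data z Q R π} {b : G}

/-- A map of order seven of a set of 2-power size has a fixed point. -/
theorem exists_fixed_map {α : Type*} [Finite α] (f : α → α) (hf : f^[7] = id) {a : ℕ} (hc : Nat.card α = 2 ^ a) :
    ∃ x, f x = x := by
  classical
  haveI : Fintype α := Fintype.ofFinite α
  haveI : Fact (Nat.Prime 7) := ⟨by norm_num⟩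
  let e : Function.End α := f
  have he : e ^ 7 ^ 1 = 1 := by
    rw [pow_one, show (e ^ 7 : Function.End α) = f^[7] from hom_coe_pow (fun g : Function.End α => (g : α → α)) rfl (fun _ _ => rfl) e 7, hf]
    rfl
  have hmod := Equiv.Perm.card_fixedPoints_modEq (p := 7) he
  rw [← Nat.card_eq_fintype_card, hc] at hmod
  have hpos : 0 < Fintype.card (Function.fixedPoints e) := by
    by_contra h0
    have h7 : 7 ∣ 2 ^ a := (Nat.modEq_zero_iff_dvd).1 (by simpa [Nat.eq_zero_of_not_pos h0] using hmod)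
    have := (Nat.prime_dvd_prime_iff_eq (by norm_num) Nat.prime_two).1 ((Fact.out : Nat.Prime 7).dvd_of_dvd_pow h7)
    omega
  obtain ⟨⟨x, hx⟩⟩ := Fintype.card_pos_iff.1 hpos
  exact ⟨x, hx⟩

variable (E : Elt D b)
include E

/-- An automorphism normalising the subgroup of order seven lifts. -/
theorem Elt.exists_lift_conj {g : Co0} {k : ℕ} (hg : g * P * g⁻¹ = P ^ k) :
    ∃ x : ↥(centralizer ({z} : Set G)), π x = QuotientGroup.mk g ∧ (x : G) * b * (x : G)⁻¹ = b ^ k := by
  classical
  obtain ⟨c, hc⟩ := D.surj (QuotientGroup.mk g)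
  let S : Set G := (fun q => (c : G) * q) '' (Q : Set G)
  set bz : ↥(centralizer ({z} : Set G)) := ⟨b, E.mem⟩ with hbz
  have hd : π (c⁻¹ * bz ^ k * c * bz⁻¹) = 1 := by
    rw [map_mul, map_mul, map_mul, map_inv, map_inv, map_pow, hc, E.img, ← QuotientGroup.mk_pow,
      ← QuotientGroup.mk_inv, ← QuotientGroup.mk_inv, ← QuotientGroup.mk_mul, ← QuotientGroup.mk_mul,
      ← QuotientGroup.mk_mul, show g⁻¹ * P ^ k * g * P⁻¹ = 1 by rw [← hg]; group]
    rfl
  have hS : ∀ y ∈ S, b ^ k * y * b⁻¹ ∈ S := by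
    rintro _ ⟨q, hq, rfl⟩
    refine ⟨((c⁻¹ * bz ^ k * c * bz⁻¹ : ↥(centralizer ({z} : Set G))) : G) * (b * q * b⁻¹),
      Q.mul_mem ((D.kerπ _).1 hd) (D.core.norm b E.bz q hq), ?_⟩
    simp only [Subgroup.coe_mul, Subgroup.coe_inv, coe_pow, hbz]
    group
  let f : S → S := fun y => ⟨b ^ k * y * b⁻¹, hS y y.2⟩
  have hf : ∀ (n : ℕ) (y : S), ((f^[n] y : S) : G) = (b ^ k) ^ n * y * (b ^ n)⁻¹ := by
    intro n
    induction n with
    | zero => intro y; simp
    | succ n ih =>
      intro y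
      rw [Function.iterate_succ_apply']
      show b ^ k * (f^[n] y : G) * b⁻¹ = _
      rw [ih, pow_succ' (b ^ k), pow_succ]
      group
  have h7 : f^[7] = id := funext fun y => Subtype.ext (by
    rw [hf, ← pow_mul, mul_comm k, pow_mul, E.pow7]; simp)
  have hcard : Nat.card S = 2 ^ 25 := by
    rw [← D.card, Nat.card_image_of_injective (mul_right_injective _)]; rfl
  obtain ⟨⟨y, q, hq, rfl⟩, hy⟩ := exists_fixed_map f h7 hcard
  have e : b ^ k * ((c : G) * q) * b⁻¹ = (c : G) * q := congrArg Subtype.val hy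
  refine ⟨c * ⟨q, D.core.le hq⟩, by rw [map_mul, (D.kerπ ⟨q, D.core.le hq⟩).2 hq, mul_one, hc], ?_⟩
  show (c : G) * q * b * ((c : G) * q)⁻¹ = b ^ k
  calc (c : G) * q * b * ((c : G) * q)⁻¹ = (b ^ k * ((c : G) * q) * b⁻¹) * b * ((c : G) * q)⁻¹ := by rw [e]
    _ = b ^ k := by group

/-- An involution over the inverting automorphism. -/
theorem Elt.exists_over_yAut :
    ∃ e : ↥(centralizer ({z} : Set G)), (e : G) * e = 1 ∧ π e = QuotientGroup.mk yAut := by
  classical
  haveI : Fact (Nat.Prime 2) := ⟨Nat.prime_two⟩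
  obtain ⟨q, hq⟩ := D.repr (axVec 0)
  have hn : sqNorm (axVec 0 : GolayPt → ℤ) = 64 := ax_facts.2.1 0
  obtain ⟨hconj, hne⟩ := D.conj_of_long E.weak hq hn
  obtain ⟨g, hgq⟩ := isConj_iff.1 hconj
  subst hgq
  obtain ⟨h, v, ⟨hv, hh⟩, -, hI, hcard⟩ := D.image_conjugate (D.mem hq) hne
  -- the inverting automorphism fixes each line of the cross
  have hline : ∀ i : GolayPt, (h * yAut * h⁻¹) • eight i = eight i ∨ (h * yAut * h⁻¹) • eight i = -eight i := by
    intro i
    have hv' : Cong (axVec 0) v := D.congr_of_fixed hq hv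
    have hc : Cong v (h⁻¹ • eight i) := by
      have := (Cong.symm ⟨_, Plus.eight_congr none i⟩ : Cong (eight none) (eight i)).smul h⁻¹
      rw [← hh, inv_smul_smul] at this
      exact this
    obtain ⟨u, hu⟩ := hv'.trans hc
    have hmem : h⁻¹ • eight i ∈ crossIn (axVec 0) := by
      refine ⟨by rw [co0_norm, hn]; exact sqNorm_eight i, -u, ?_⟩
      rw [hu, two_nsmul]; abel
    rw [mul_smul, mul_smul]
    rcases yAut_cross hmem with e | e <;> rw [e]
    · exact Or.inl (smul_inv_smul h _)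
    · exact Or.inr (by rw [co0_neg, smul_inv_smul])
  obtain ⟨τ, hτ, cs, hcs, hmono⟩ := exists_monoAut (mem_crossStab_of_congr (hline none))
  have hτ1 : τ = 1 := Equiv.ext fun i => by
    have hne8 : (if τ i ∈ cs then (-8 : ℤ) else 8) ≠ 0 := by split_ifs <;> norm_num
    have h1 := mono_eight hτ hcs i
    rw [← hmono] at h1
    rcases hline i with e | e <;> rw [e] at h1
    · exact (single_inj hne8 h1.symm).1
    · refine (single_inj hne8 (h1.symm.trans ?_ : _ = Pi.single i (-8 : ℤ))).1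
      show -(Pi.single i (8 : ℤ) : GolayPt → ℤ) = _
      rw [Pi.single_neg]
  subst hτ1
  let n : crossStab := ⟨sgnAut hcs, monoAut_preserves _ hcs⟩
  obtain ⟨e, he, hen⟩ : crossMap h n ∈ _ := hI ▸ mem_map_of_mem (crossMap h) (x := n) (K := signs)
    (mem_subgroupOf.2 ⟨_, hcs, rfl⟩)
  have hπe : π e = QuotientGroup.mk yAut := by
    rw [hen, crossMap_apply]
    refine congrArg _ ?_
    show h⁻¹ * monoAut M24.one_mem hcs * h = yAut
    rw [← hmono]; group
  set Q' := Q.map (MulAut.conj g).toMonoidHom with hQ'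
  set s := g * z * g⁻¹ with hs
  have hduo := D.duo (D.mem hq) hne
  have he' : (e : G) ∈ Q' := he.1
  rcases hduo.right.sqQ _ he' with hee | hee
  · exact ⟨e, hee, hπe⟩
  obtain ⟨r, hrQ, hrQ', hre⟩ : ∃ r, r ∈ Q ∧ r ∈ Q' ∧ r * (e : G) ≠ e * r := by
    by_contra hall
    push Not at hall
    have heQ : (e : G) ∉ Q := fun h' => yAut_noncentral (hπe.symm.trans ((D.kerπ e).2 h'))
    set I := Q ⊓ Q' with hI'
    set A := closure (insert (e : G) (I : Set G)) with hA
    have hAQ : A ≤ Q' := (closure_le _).2 (Set.insert_subset he' fun x hx => hx.2)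
    have hcomm : A ≤ centralizer (A : Set G) := by
      rw [hA, centralizer_closure, closure_le]
      intro x hx
      refine mem_centralizer_iff.2 fun y hy => ?_
      rcases hx with rfl | hx <;> rcases hy with rfl | hy
      · rfl
      · exact hall y hy.1 hy.2
      · exact (hall x hx.1 hx.2).symm
      · exact hduo.inter_abelian hy.1 hy.2 hx.1 hx.2
    have hIA : I < A := lt_of_le_of_ne (fun x hx => subset_closure (Or.inr hx)) fun h' =>
      heQ (h' ▸ subset_closure (Or.inl rfl) : (e : G) ∈ I).1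
    set φ := (MulAut.conj g⁻¹).toMonoidHom
    have hφ : Function.Injective φ := (MulAut.conj g⁻¹).injective
    have hAm : A.map φ ≤ Q := by
      rintro _ ⟨a, ha, rfl⟩
      obtain ⟨r, hr, rfl⟩ := hAQ ha
      show g⁻¹ * (g * r * g⁻¹) * g⁻¹⁻¹ ∈ Q
      rwa [show g⁻¹ * (g * r * g⁻¹) * g⁻¹⁻¹ = r by group]
    have hab : IsMulCommutative ((A.map φ).subgroupOf Q) := ⟨⟨fun a c => by
      obtain ⟨a', ha', ea⟩ := mem_subgroupOf.1 a.2
      obtain ⟨c', hc', ec⟩ := mem_subgroupOf.1 c.2
      refine Subtype.ext (Subtype.ext ?_)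
      show (((a : ↥Q)) : G) * ((c : ↥Q) : G) = ((c : ↥Q) : G) * ((a : ↥Q) : G)
      rw [← ea, ← ec, ← map_mul, ← map_mul, mem_centralizer_iff.1 (hcomm hc') a' ha']⟩⟩
    have hle := (CfsgLib.PGroup.smallCenter_of_extraspecial D.core.ext).1.card_abelian_le _ hab
    rw [Nat.card_congr (subgroupOfEquivOfLe hAm).toEquiv, card_map_of_injective hφ, D.card] at hle
    have hlt : Nat.card I < Nat.card A := by
      refine lt_of_le_of_ne (card_le_of_le hIA.le) fun h' => hIA.ne (eq_of_le_of_card_ge hIA.le h'.ge)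
    have hI2 : 2 * Nat.card I ≤ Nat.card A := by
      obtain ⟨m, hm⟩ := card_dvd_of_le hIA.le
      rcases m with _ | _ | m
      · rw [hm] at hlt; simp at hlt
      · rw [hm] at hlt; simp at hlt
      · rw [hm]; ring_nf; omega
    have hI13 : Nat.card I = 2 ^ 13 := hcard
    rw [hI13] at hI2
    nlinarith
  have hrr : r * r = 1 := hduo.inter_sq hrQ hrQ'
  refine ⟨e * ⟨r, D.core.le hrQ⟩, ?_, by rw [map_mul, (D.kerπ ⟨r, D.core.le hrQ⟩).2 hrQ, mul_one, hπe]⟩
  show (e : G) * r * ((e : G) * r) = 1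
  have hc : (e : G) * r * (e : G)⁻¹ * r⁻¹ = s := (hduo.right.comm _ he' r hrQ').resolve_left fun h1 =>
    hre (mul_inv_eq_iff_eq_mul.1 (mul_inv_eq_one.1 h1)).symm
  calc (e : G) * r * ((e : G) * r) = ((e : G) * r * (e : G)⁻¹ * r⁻¹) * r * ((e : G) * e) * r := by group
    _ = s * (r * s) * r := by rw [hc, show (e : G) * e = s from hee]; group
    _ = (s * s) * (r * r) := by rw [show r * s = s * r from hduo.right.cz r hrQ']; group
    _ = 1 := by rw [show s * s = 1 from hduo.right.sq, hrr, one_mul]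

/-- An involution of the centralizer of `z` inverting the element of order seven. -/
theorem Elt.exists_inverting : ∃ t : G, t * z = z * t ∧ orderOf t = 2 ∧ t * b * t⁻¹ = b⁻¹ := by
  obtain ⟨e, hee, hπe⟩ := E.exists_over_yAut
  have hP6 : P ^ 6 = P⁻¹ := eq_inv_of_mul_eq_one_left (by rw [← pow_succ, P_pow_seven])
  obtain ⟨x, hπx, hxb⟩ := E.exists_lift_conj (g := yAut) (k := 6) (by rw [hP6]; exact yAut_inverts)
  have hb6 : b ^ 6 = b⁻¹ := eq_inv_of_mul_eq_one_left (by rw [← pow_succ, E.pow7])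
  rw [hb6] at hxb
  set q : G := (x : G)⁻¹ * e with hq
  have hqQ : q ∈ Q := by
    refine (D.kerπ (x⁻¹ * e)).1 ?_
    rw [map_mul, map_inv, hπx, hπe, inv_mul_cancel]
  have hxz : (x : G) * z = z * x := mem_centralizer_singleton_iff.1 x.2
  have hy2 : (QuotientGroup.mk yAut : Cfsg.Spor.Co1) * QuotientGroup.mk yAut = 1 := by
    rw [← hπe, ← map_mul, show e * e = 1 from Subtype.ext hee, map_one]
  have hy : (QuotientGroup.mk yAut : Cfsg.Spor.Co1)⁻¹ = QuotientGroup.mk yAut := inv_eq_of_mul_eq_one_right hy2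
  have hxx : (x : G) * x ∈ fixed Q b := by
    refine ⟨(D.kerπ (x * x)).1 (by rw [map_mul, hπx, hy2]), mem_centralizer_singleton_iff.2 ?_⟩
    refine mul_inv_eq_iff_eq_mul.1 ?_
    calc (x : G) * x * b * ((x : G) * x)⁻¹ = (x : G) * ((x : G) * b * (x : G)⁻¹) * (x : G)⁻¹ := by group
      _ = b := by rw [hxb, ← conj_inv, hxb, inv_inv]
  obtain ⟨v, -, hv⟩ := D.short q hqQ
  obtain ⟨s, -, hs⟩ := D.short _ hxx.1
  have hsP : Cong s (P • s) := (E.mem_fixed_iff hs).1 hxx
  set gi : Co0 := yAut⁻¹ with hgi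
  have hπxi : π x⁻¹ = QuotientGroup.mk gi := by rw [map_inv, hπx, hgi, QuotientGroup.mk_inv]
  have hconj : ∀ {u : leechLattice} {r : G}, R u r → R (gi • u) ((x : G)⁻¹ * r * x) := fun {u r} hr => by
    have := D.conj x⁻¹ hπxi hr
    simpa using this
  have hsum : Cong (gi • v) (v + s) := by
    have h1 := D.add (D.add hs (hconj hv)) hv
    have e1 : (x : G) * x * ((x : G)⁻¹ * q * x) * q = 1 := by
      calc (x : G) * x * ((x : G)⁻¹ * q * x) * q = ((x : G) * q) * ((x : G) * q) := by group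
        _ = 1 := by rw [hq, mul_inv_cancel_left]; exact hee
    rw [e1] at h1
    obtain ⟨u, hu⟩ := (D.ker h1).1 (Or.inl rfl)
    refine ⟨v + s - u, ?_⟩
    have : gi • v = u + u - s - v := by rw [← hu]; abel
    rw [this]; abel
  have hPk : ∀ (k : ℕ) (u : leechLattice), P • (P ^ k • u) = P ^ (k + 1) • u := fun k u => by
    rw [← mul_smul, ← pow_succ']
  have hPg : ∀ u : leechLattice, P • (gi • u) = gi • (P ^ 6 • u) := fun u => by
    rw [← mul_smul, ← mul_smul]
    congr 1
    rw [hgi, hP6]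
    calc P * yAut⁻¹ = yAut⁻¹ * (yAut * P * yAut⁻¹) := by group
      _ = yAut⁻¹ * P⁻¹ := by rw [yAut_inverts]
  have hP3 : Cong (gi • (P ^ 3 • v)) (P ^ 4 • v + s) := by
    have e : P ^ 4 • (gi • v) = gi • (P ^ 3 • v) := by
      rw [← mul_smul, ← mul_smul]
      congr 1
      rw [hgi]
      calc P ^ 4 * yAut⁻¹ = yAut⁻¹ * (yAut * P ^ 4 * yAut⁻¹) := by group
        _ = yAut⁻¹ * P ^ 3 := by
          rw [← conj_pow, yAut_inverts, inv_pow, eq_comm]
          congr 1
          exact eq_inv_of_mul_eq_one_left (by rw [← pow_add, P_pow_seven])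
    have hs4 : ∀ k : ℕ, Cong s (P ^ k • s) := by
      intro k
      induction k with
      | zero => rw [pow_zero, one_smul]; exact Cong.refl s
      | succ k ih => rw [← hPk]; exact hsP.trans (ih.smul P)
    have := hsum.smul (P ^ 4)
    rw [e, co0_add] at this
    exact this.trans ((Cong.refl _).add (hs4 4).symm)
  set W := P ^ 1 • v + P ^ 2 • v + P ^ 3 • v with hW
  obtain ⟨w, hw⟩ := D.repr W
  have hwQ := D.mem hw
  set r := (x : G)⁻¹ * w * x * q * w with hr
  have hrR : R (gi • W + v + W) r := D.add (D.add (hconj hw) hv) hw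
  have hrF : r ∈ fixed Q b := by
    refine (E.mem_fixed_iff hrR).2 ?_
    have h6 : ∀ k, P ^ 6 • (P ^ (k + 1) • v) = P ^ k • v := fun k => by
      rw [← mul_smul, ← pow_add, show 6 + (k + 1) = 7 + k by ring, pow_add, P_pow_seven, one_mul]
    have e1 : P • (gi • W) = gi • v + gi • (P ^ 1 • v) + gi • (P ^ 2 • v) := by
      simp only [hPg, hW, co0_add, h6 0, h6 1, h6 2, pow_zero, one_smul]
    have e2 : P • W = P ^ 2 • v + P ^ 3 • v + P ^ 4 • v := by
      simp only [hW, co0_add, hPk]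
    have e3 : P • v = P ^ 1 • v := by rw [pow_one]
    have e4 : gi • W = gi • (P ^ 1 • v) + gi • (P ^ 2 • v) + gi • (P ^ 3 • v) := by simp only [hW, co0_add]
    have goal' : P • (gi • W + v + W) = P • (gi • W) + P • v + P • W := by rw [co0_add, co0_add]
    rw [goal', e1, e2, e3, e4, hW]
    refine Cong.trans ((((Cong.refl (gi • (P ^ 1 • v))).add (Cong.refl (gi • (P ^ 2 • v)))).add hP3).add
      (Cong.refl v) |>.add (Cong.refl _)) ?_
    refine Cong.trans ?_ ((((hsum.symm).add (Cong.refl (gi • (P ^ 1 • v)))).add (Cong.refl (gi • (P ^ 2 • v)))).add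
      (Cong.refl _) |>.add (Cong.refl _))
    exact ⟨0, by abel⟩
  have hwc : ∀ u : G, u * z = z * u → w * w * u = u * (w * w) := fun u hu => by
    rcases D.half.sqQ w hwQ with h | h <;> rw [h]
    · rw [one_mul, mul_one]
    · exact hu.symm
  refine ⟨(x : G) * r, ?_, ?_, ?_⟩
  · rw [mul_assoc, D.half.cz r hrF.1, ← mul_assoc, hxz, mul_assoc]
  · refine orderOf_eq_prime ?_ fun h1 => ?_
    · have ext : (x : G) * r = w * e * w := by rw [hr, hq]; group
      have hez : (e : G) * z = z * e := mem_centralizer_singleton_iff.1 e.2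
      rw [ext, pow_two]
      calc w * e * w * (w * e * w) = w * e * (w * w * e) * w := by group
        _ = w * ((e : G) * e) * (w * w) * w := by rw [hwc e hez]; group
        _ = (w * w) * (w * w) := by rw [hee, mul_one]; group
        _ = 1 := by rcases D.half.sqQ w hwQ with h | h <;> rw [h] <;> simp [D.zz]
    · refine yAut_noncentral (hπx.symm.trans ((D.kerπ x).2 ?_))
      rw [eq_inv_of_mul_eq_one_left h1]
      exact Q.inv_mem hrF.1
  · have hrb : r * b * r⁻¹ = b := mul_inv_eq_iff_eq_mul.2 (mem_centralizer_singleton_iff.1 hrF.2)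
    calc (x : G) * r * b * ((x : G) * r)⁻¹ = (x : G) * (r * b * r⁻¹) * (x : G)⁻¹ := by group
      _ = b⁻¹ := by rw [hrb, hxb]

end

end CfsgLib.Spor.MonsterType.Seven
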