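import Cfsg.Agent.Lib.Spor.MonsterType.Seven.Auto

/-!
# The automizer of the subgroup of order seven and the layer of its centralizer
-/

set_option autoImplicit false

namespace CfsgLib.Spor.MonsterType.Seven

open Subgroup CfsgLib.Spor CfsgLib.Spor.Leech
open Cfsg (leechLattice Co0 sqNorm GolayPt M24)

noncomputable section

theorem sevenM_cases : ∀ i : Fin 7, (i : ℕ) ≠ 0 → (i : ℕ) ≠ 1 → (i : ℕ) ≠ 6 → (i : ℕ) * i % 7 ≠ 1 := by decide

/-- A permutation normalising the element of order seven, of automizer order three. -/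
theorem exists_perm_power : ∃ (τ : M24) (i : ℕ), i * i % 7 ≠ 1 ∧ τ * sevenM * τ⁻¹ = sevenM ^ i := by
  classical
  obtain ⟨hN, hC, -⟩ := sylow_seven (zpowers sevenM) card_zpowers_sevenM
  obtain ⟨t, htN, htC⟩ := SetLike.not_le_iff_exists.1 (fun h : normalizer (zpowers sevenM : Set M24) ≤
      centralizer (zpowers sevenM : Set M24) => by
    have := card_le_of_le h
    rw [hN, hC] at this; omega)
  have hm := (mem_normalizer_zpowers sevenM t).1 htN
  have hord : orderOf sevenM = 7 := (Nat.card_zpowers _).symm.trans card_zpowers_sevenM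
  rw [mem_zpowers_iff_mem_range_orderOf, hord, Finset.mem_image] at hm
  obtain ⟨i, hi, e⟩ := hm
  rw [Finset.mem_range] at hi
  refine ⟨t, i, sevenM_cases ⟨i, hi⟩ ?_ ?_ ?_, e.symm⟩
  · rintro rfl
    rw [pow_zero, eq_comm, conj_eq_one_iff] at e
    rw [e, orderOf_one] at hord; omega
  · rintro rfl
    rw [pow_one, eq_comm, mul_inv_eq_iff_eq_mul] at e
    refine htC ?_
    rw [zpowers_eq_closure, centralizer_closure]
    exact mem_centralizer_singleton_iff.2 e
  · rintro rfl
    refine no_inverting t.2 ?_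
    have e' : t * sevenM * t⁻¹ = sevenM⁻¹ := e.symm.trans
      (eq_inv_of_mul_eq_one_left (by rw [← pow_succ, show 6 + 1 = orderOf sevenM from hord.symm, pow_orderOf_eq_one]))
    have := congrArg (fun g : M24 => (g : Equiv.Perm GolayPt)) e'
    exact this

variable {G : Type*} [Group G] [Finite G] {z : G} {Q : Subgroup G} {R : leechLattice → G → Prop}
  {π : ↥(centralizer ({z} : Set G)) →* Cfsg.Spor.Co1} {D : Data z Q R π} {b : G}

variable (E : Elt D b)
include E

theorem Elt.exists_power : ∃ (x : G) (i : ℕ), i * i % 7 ≠ 1 ∧ x * b * x⁻¹ = b ^ i := by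
  obtain ⟨τ, i, hi, e⟩ := exists_perm_power
  obtain ⟨x, -, hx⟩ := E.exists_lift_conj (g := prmHom τ) (k := i) (by
    show prmHom τ * prmHom sevenM * (prmHom τ)⁻¹ = _
    rw [← map_inv, ← map_mul, ← map_mul, e, map_pow]
    rfl)
  exact ⟨x, i, hi, hx⟩

/-- The automizer has order six. -/
theorem Elt.relIndex_six {B : Subgroup G} (hB : B = zpowers b) :
    (centralizer (B : Set G)).relIndex (normalizer (B : Set G)) = 6 := by
  subst hB
  classical
  set B := zpowers b with hBdef
  have hb : b ∈ B := mem_zpowers b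
  have hmem : ∀ {x : G} {i : ℕ}, x * b * x⁻¹ = b ^ i → x ∈ normalizer (B : Set G) := fun {x i} h =>
    (mem_normalizer_zpowers b x).2 (h ▸ pow_mem (mem_zpowers b) i)
  have hinj : ∀ {i j : ℕ}, b ^ i = b ^ j → i % 7 = j % 7 := fun {i j} h => by
    have := pow_inj_mod.1 h
    rwa [E.ord] at this
  set φ := normalizerMonoidHom B with hφ
  have happ : ∀ (x : ↥(normalizer (B : Set G))) (w : ↥B), ((φ x w : ↥B) : G) = (x : G) * w * (x : G)⁻¹ :=
    fun x w => rfl
  haveI : IsCyclic ↥B := isCyclic_zpowers b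
  have hr : (centralizer (B : Set G)).relIndex (normalizer (B : Set G)) = Nat.card φ.range := by
    rw [relIndex, ← normalizerMonoidHom_ker, index_ker]
  have h6 : Nat.card φ.range ∣ 6 := by
    have := φ.range.card_subgroup_dvd_card
    rwa [IsCyclic.card_mulAut, show Nat.card ↥B = 7 from (Nat.card_zpowers b).trans E.ord, Nat.totient_prime (by norm_num)] at this
  obtain ⟨t, -, -, ht⟩ := E.exists_inverting
  have hb6 : b⁻¹ = b ^ 6 := (eq_inv_of_mul_eq_one_left (by rw [← pow_succ, E.pow7])).symm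
  have ht6 : t * b * t⁻¹ = b ^ 6 := by rw [ht, hb6]
  obtain ⟨x, i, hi, hx⟩ := E.exists_power
  set u := φ ⟨t, hmem ht6⟩ with hu
  set v := φ ⟨x, hmem hx⟩ with hv
  have h2 : 2 ∣ Nat.card φ.range := by
    have hu1 : u ≠ 1 := fun h => by
      have := congrArg (fun a : MulAut ↥B => ((a ⟨b, hb⟩ : ↥B) : G)) h
      simp only [hu, happ, MulAut.one_apply, ht6] at this
      have := hinj (this.trans (pow_one b).symm)
      omega
    have huu : u ^ 2 = 1 := MulEquiv.ext fun w => Subtype.ext (by
      obtain ⟨k, hk⟩ := mem_zpowers_iff.1 w.2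
      rw [pow_two, MulAut.mul_apply, hu, happ, happ, MulAut.one_apply, ← hk]
      show t * (t * b ^ k * t⁻¹) * t⁻¹ = b ^ k
      rw [← conj_zpow, ← conj_zpow, ht, ← conj_inv, ht, inv_inv])
    have ho : orderOf u = 2 := orderOf_eq_prime huu hu1
    rw [← ho]
    exact φ.range.orderOf_dvd_natCard ⟨_, rfl⟩
  have hne : Nat.card φ.range ≠ 2 := fun hc => by
    have hv2 : v ^ 2 = 1 := by
      have h := pow_card_eq_one' (G := φ.range) (x := ⟨v, ⟨_, rfl⟩⟩)
      rw [hc] at h
      exact congrArg Subtype.val h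
    have := congrArg (fun a : MulAut ↥B => ((a ⟨b, hb⟩ : ↥B) : G)) hv2
    simp only [pow_two, MulAut.mul_apply, hv, happ, MulAut.one_apply] at this
    rw [hx, ← conj_pow, hx, ← pow_mul] at this
    exact hi (by simpa using hinj (this.trans (pow_one b).symm))
  rw [hr]
  have hle := Nat.le_of_dvd (by norm_num) h6
  generalize Nat.card φ.range = r at h6 h2 hne hle ⊢
  interval_cases r <;> omega

/-- An involution inverting the element of order seven acts on the layer as no element of the layer does. -/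
theorem Elt.outer {B : Subgroup G} (hB : B = zpowers b) :
    ∃ t : G, orderOf t = 2 ∧ (∀ w ∈ B, t * w * t⁻¹ = w⁻¹) ∧
      (∀ x ∈ (Cfsg.layer ↥(centralizer (B : Set G))).map (centralizer (B : Set G)).subtype,
        t * x * t⁻¹ ∈ (Cfsg.layer ↥(centralizer (B : Set G))).map (centralizer (B : Set G)).subtype) ∧
      ¬ ∃ l ∈ (Cfsg.layer ↥(centralizer (B : Set G))).map (centralizer (B : Set G)).subtype,
        ∀ x ∈ (Cfsg.layer ↥(centralizer (B : Set G))).map (centralizer (B : Set G)).subtype,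
          t * x * t⁻¹ = l * x * l⁻¹ := by
  obtain ⟨hzL, hqL⟩ := E.mem_layer hB
  subst hB
  classical
  set M := centralizer (zpowers b : Set G) with hM
  obtain ⟨t, htz, ht2, htb⟩ := E.exists_inverting
  have hinv : ∀ w ∈ zpowers b, t * w * t⁻¹ = w⁻¹ := fun w hw => by
    obtain ⟨k, rfl⟩ := mem_zpowers_iff.1 hw
    rw [← conj_zpow, htb, inv_zpow]
  refine ⟨t, ht2, hinv, ?_, ?_⟩
  · have htt : t * t = 1 := by rw [← pow_two, ← ht2, pow_orderOf_eq_one]
    have hti : t⁻¹ = t := inv_eq_of_mul_eq_one_right htt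
    have hconj : ∀ m : G, m ∈ M → t * m * t⁻¹ ∈ M := fun m hm => mem_cent_zpowers.2 (by
      have e : t * b⁻¹ * t⁻¹ = b := by rw [← conj_inv, htb, inv_inv]
      calc t * m * t⁻¹ * b = t * (m * (t⁻¹ * b * t)) * t⁻¹ := by group
        _ = t * (m * b⁻¹) * t⁻¹ := by rw [show t⁻¹ * b * t = t * b * t⁻¹ by rw [hti], htb]
        _ = t * (b⁻¹ * m) * t⁻¹ := by
            rw [show m * b⁻¹ = b⁻¹ * m from (show Commute m b from mem_cent_zpowers.1 hm).inv_right]
        _ = (t * b⁻¹ * t⁻¹) * (t * m * t⁻¹) := by group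
        _ = b * (t * m * t⁻¹) := by rw [e])
    let e : ↥M ≃* ↥M :=
      { toFun := fun m => ⟨t * m * t⁻¹, hconj m m.2⟩
        invFun := fun m => ⟨t * m * t⁻¹, hconj m m.2⟩
        left_inv := fun m => Subtype.ext (by
          show t * (t * (m : G) * t⁻¹) * t⁻¹ = m
          rw [hti, show t * (t * (m : G) * t) * t = (t * t) * m * (t * t) by group, htt, one_mul, mul_one])
        right_inv := fun m => Subtype.ext (by
          show t * (t * (m : G) * t⁻¹) * t⁻¹ = m
          rw [hti, show t * (t * (m : G) * t) * t = (t * t) * m * (t * t) by group, htt, one_mul, mul_one])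
        map_mul' := fun m n => Subtype.ext (by
          show t * ((m : G) * n) * t⁻¹ = t * m * t⁻¹ * (t * n * t⁻¹)
          group) }
    rintro x ⟨m, hm, rfl⟩
    refine ⟨e m, ?_, rfl⟩
    rw [← CfsgLib.Coprime.map_layer_equiv e]
    exact mem_map_of_mem _ hm
  · rintro ⟨l, hl, heq⟩
    obtain ⟨m, -, rfl⟩ := hl
    set u := ((m : ↥M) : G)⁻¹ * t with hu
    have hfix : ∀ x ∈ (Cfsg.layer ↥M).map M.subtype, u * x * u⁻¹ = x := fun x hx => by
      calc u * x * u⁻¹ = ((m : ↥M) : G)⁻¹ * (t * x * t⁻¹) * m := by rw [hu]; group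
        _ = x := by rw [heq x hx]; show ((m : ↥M) : G)⁻¹ * ((m : G) * x * (m : G)⁻¹) * m = x; group
    have hub : u * b * u⁻¹ = b⁻¹ := by
      calc u * b * u⁻¹ = ((m : ↥M) : G)⁻¹ * (t * b * t⁻¹) * m := by rw [hu]; group
        _ = b⁻¹ := by
          rw [htb, mul_assoc, show b⁻¹ * (m : G) = m * b⁻¹ from
            (show Commute (m : G) b from mem_cent_zpowers.1 m.2).inv_right.eq.symm, inv_mul_cancel_left]
    let uc : ↥(centralizer ({z} : Set G)) :=
      ⟨u, mem_centralizer_singleton_iff.2 (mul_inv_eq_iff_eq_mul.1 (hfix z hzL))⟩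
    obtain ⟨g, hg⟩ := QuotientGroup.mk_surjective (π uc)
    have hgc : Cong (rep 32) (g • rep 32) := by
      have h32 := pick_spec D 32
      have h := D.conj uc hg.symm h32
      change R _ (u * elt D (32, false) * u⁻¹) at h
      rw [hfix _ hqL] at h
      exact D.congr_of_fixed h32 h
    rw [rep_std] at hgc
    have hg' : (QuotientGroup.mk (g * P * g⁻¹) : Cfsg.Spor.Co1) = QuotientGroup.mk P⁻¹ := by
      rw [QuotientGroup.mk_mul, QuotientGroup.mk_mul, QuotientGroup.mk_inv, hg, QuotientGroup.mk_inv, ← E.img,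
        ← map_inv, ← map_inv, ← map_mul, ← map_mul]
      exact congrArg π (Subtype.ext hub)
    have hmem : (g * P * g⁻¹)⁻¹ * P⁻¹ ∈ center Co0 := QuotientGroup.eq.1 hg'
    rcases mem_center_iff_eq.1 hmem with e | e
    · exact not_inverts (mem_crossStab_of_cong hgc) (inv_mul_eq_one.1 e)
    · have hP := eq_mul_of_inv_mul_eq e
      have h7 := congrArg (fun a : Co0 => a ^ 7) hP
      rw [inv_pow, P_pow_seven, (show Commute (g * P * g⁻¹) negAut from mem_center_iff.1 negAut_central _).mul_pow,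
        conj_pow, P_pow_seven, mul_one, mul_inv_cancel, one_mul, inv_one] at h7
      have h2 : negAut ^ 2 = 1 := by
        rw [pow_two]; exact sgnAut_sq Cfsg.Spor.univ_mem_supports_golayCode
      rw [show 7 = 2 * 3 + 1 from rfl, pow_succ, pow_mul, h2, one_pow, one_mul] at h7
      exact negAut_ne_one h7.symm

end

end CfsgLib.Spor.MonsterType.Seven
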