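import Cfsg.Agent.Lib.Spor.MonsterType.Seven.Quot

/-!
# A cross diagonalizing the element that inverts the element of order seven
-/

set_option autoImplicit false

namespace CfsgLib.Spor.MonsterType.Seven

open CfsgLib.Spor CfsgLib.Spor.Leech
open Cfsg (GolayPt sqNorm)

/-- Vectors of a cross, one of each opposite pair. -/
def axTab : List (List ℤ) := [
    [4, 0, 0, 2, -2, -2, 2, 0, -2, 0, 0, 0, 0, 0, 0, -4, 0, 2, 0, 0, 2, 0, 0, -2],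
    [4, 0, 0, -2, 2, 2, -2, 0, 2, 0, 0, 0, 0, 0, 0, -4, 0, -2, 0, 0, -2, 0, 0, 2],
    [2, 2, 2, 0, 0, 0, 0, 2, 0, 2, -2, -2, -2, 2, -2, 2, -2, 0, -2, 2, 0, 2, 2, 0],
    [2, 2, 2, 0, 0, 0, 0, 2, 0, -2, 2, 2, 2, -2, -2, 2, 2, 0, -2, -2, 0, -2, 2, 0],
    [2, 2, -2, 0, 0, 0, 0, 2, 0, 2, 2, -2, -2, -2, 2, 2, 2, 0, 2, 2, 0, -2, -2, 0],
    [2, 2, -2, 0, 0, 0, 0, 2, 0, -2, -2, 2, 2, 2, 2, 2, -2, 0, 2, -2, 0, 2, -2, 0],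
    [2, -2, 2, 0, 0, 0, 0, -2, 0, 2, 2, 2, 2, 2, 2, 2, 2, 0, 2, 2, 0, 2, 2, 0],
    [2, -2, 2, 0, 0, 0, 0, -2, 0, -2, -2, -2, -2, -2, 2, 2, -2, 0, 2, -2, 0, -2, 2, 0],
    [2, -2, -2, 0, 0, 0, 0, -2, 0, 2, -2, 2, 2, -2, -2, 2, -2, 0, -2, 2, 0, -2, -2, 0],
    [2, -2, -2, 0, 0, 0, 0, -2, 0, -2, 2, -2, -2, 2, -2, 2, 2, 0, -2, -2, 0, 2, -2, 0],
    [0, 4, 0, 2, 2, 2, 2, -4, 2, 0, 0, 0, 0, 0, 0, 0, 0, 2, 0, 0, 2, 0, 0, 2],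
    [0, 4, 0, -2, -2, -2, -2, -4, -2, 0, 0, 0, 0, 0, 0, 0, 0, -2, 0, 0, -2, 0, 0, -2],
    [0, 0, 4, 2, -2, -2, -2, 0, 2, 0, 0, 0, 0, 0, 0, 0, 0, -2, 0, 0, 2, 0, -4, 2],
    [0, 0, 4, -2, 2, 2, 2, 0, -2, 0, 0, 0, 0, 0, 0, 0, 0, 2, 0, 0, -2, 0, -4, -2],
    [0, 0, 0, 2, 2, 2, -2, 0, -2, 0, 0, 0, 0, 0, 4, 0, 0, -2, -4, 0, 2, 0, 0, -2],
    [0, 0, 0, 2, 2, 2, -2, 0, -2, 0, 0, 0, 0, 0, -4, 0, 0, -2, 4, 0, 2, 0, 0, -2],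
    [0, 0, 0, 2, 2, -2, 2, 0, 2, 4, 0, 0, 0, 0, 0, 0, 0, -2, 0, -4, -2, 0, 0, -2],
    [0, 0, 0, 2, 2, -2, 2, 0, 2, -4, 0, 0, 0, 0, 0, 0, 0, -2, 0, 4, -2, 0, 0, -2],
    [0, 0, 0, 2, 2, -2, -2, 0, -2, 0, 0, 0, 0, 4, 0, 0, 0, 2, 0, 0, -2, -4, 0, 2],
    [0, 0, 0, 2, 2, -2, -2, 0, -2, 0, 0, 0, 0, -4, 0, 0, 0, 2, 0, 0, -2, 4, 0, 2],
    [0, 0, 0, 2, -2, 2, 2, 0, -2, 0, 0, 4, -4, 0, 0, 0, 0, -2, 0, 0, -2, 0, 0, 2],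
    [0, 0, 0, 2, -2, 2, 2, 0, -2, 0, 0, -4, 4, 0, 0, 0, 0, -2, 0, 0, -2, 0, 0, 2],
    [0, 0, 0, 2, -2, 2, -2, 0, 2, 0, 4, 0, 0, 0, 0, 0, -4, 2, 0, 0, -2, 0, 0, -2],
    [0, 0, 0, 2, -2, 2, -2, 0, 2, 0, -4, 0, 0, 0, 0, 0, 4, 2, 0, 0, -2, 0, 0, -2]]

/-- The vectors as functions on the points. -/
def axFn (i : Fin 24) : GolayPt → ℤ := fun p => (axTab.getD i []).getD (ptIdx p) 0

/-- Evaluation at all points. -/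
def axRow (x : GolayPt → ℤ) : List ℤ := (List.range 24).map fun i => x (idxPt i)

set_option maxRecDepth 100000

theorem ax_facts : (∀ i, leechTest (axFn i) = true) ∧ (∀ i, sqNorm (axFn i) = 64) ∧
    (∀ i, congTest (axFn 0) (axFn i) = true) ∧
    (∀ i j, i ≠ j → axRow (axFn i) ≠ axRow (axFn j) ∧ axRow (axFn i) ≠ axRow (-axFn j)) ∧
    (∀ i, axRow (matVec yTab (axFn i)) = axRow (axFn i) ∨ axRow (matVec yTab (axFn i)) = axRow (-axFn i)) := by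
  refine ⟨by decide +kernel, by decide +kernel, by decide +kernel, by decide +kernel, by decide +kernel⟩

theorem yRow_zero : tabEntry yTab none none ≠ 8 ∧ tabEntry yTab none none ≠ -8 := by decide +kernel

end CfsgLib.Spor.MonsterType.Seven
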