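import Cfsg.Agent.Lib.Spor.MonsterType.Seven.Data

/-!
# Checks of the tables
-/

set_option autoImplicit false

namespace CfsgLib.Spor.MonsterType.Seven

open CfsgLib.Spor CfsgLib.Spor.Leech
open Cfsg (GolayPt sqNorm)

set_option maxRecDepth 100000

theorem cTab_cert : MatCert cTab cTabT :=
  ⟨by decide +kernel, by decide +kernel, by decide +kernel, by decide +kernel, by decide +kernel⟩

theorem cTabT_cert : MatCert cTabT cTab :=
  ⟨by decide +kernel, by decide +kernel, by decide +kernel, by decide +kernel, by decide +kernel⟩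

theorem yTab_cert : MatCert yTab yTabT :=
  ⟨by decide +kernel, by decide +kernel, by decide +kernel, by decide +kernel, by decide +kernel⟩

theorem yTabT_cert : MatCert yTabT yTab :=
  ⟨by decide +kernel, by decide +kernel, by decide +kernel, by decide +kernel, by decide +kernel⟩

/-- The tables commute, or anticommute, with the permutation. -/
theorem tab_comm : (∀ i p, tabEntry cTab (fnPt sevenElt i) (fnPt sevenElt p) = tabEntry cTab i p) ∧
    (∀ i p, tabEntry yTab (fnPt sevenElt i) p = tabEntry yTab i (fnPt sevenElt p)) := by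
  constructor <;> decide +kernel

theorem grp_facts : (∀ p, grp (fnPt sevenElt p) = grp p) ∧
    (∀ p, ∃ k : Fin 7, (fnPt sevenElt)^[(k : ℕ)] (![none, idxPt 0, idxPt 1, idxPt 6, idxPt 9, idxPt 2] (grp p)) = p) ∧
    grp none = 0 ∧ grp (idxPt 0) = 1 ∧ grp (idxPt 1) = 2 := by
  refine ⟨by decide +kernel, by decide +kernel, by decide +kernel, by decide +kernel, by decide +kernel⟩

end CfsgLib.Spor.MonsterType.Seven
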