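import Cfsg.Agent.Lib.Spor.SylowSeven

/-!
# The centralizer of the permutation of order seven, as a list
-/

set_option autoImplicit false

namespace CfsgLib.Spor.MonsterType.Seven

/-- The permutations commuting with the element of order seven. -/
def centLit : List ℕ := [
  0xbdab49ca307b9ac5a928398a418820,
  0xbc5877aa8e4cc464424dad96520c20,
  0xbd0d54c0f393c766b9426450b29020,
  0xb9ecc93aaf5249114e03351a859420,
  0xbd62654d89848b41bdc4b1c4d42c20,
  0xbb29683cd272967226658d4626a020,
  0xb98f1726ca9c1152c9eba308313420,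
  0x91ab54ca9849823bdd540e91b1ae0,
  0x944883d72728c3aa66c690f48dae0,
  0xac6d7250a9c2c4649e6116a7a46e0,
  0xa0829c9b07ba25329361ad953d2e0,
  0xb4a37a84e4ce8bb4251220cca9ee0,
  0x89644c07393ce88b9542b6c6656e0,
  0x8d059388f526ada4e0758a36332e0,
  0xbd0d5220e228df6735736460a92401,
  0xb9ecc2b6a3591319890f351d054801,
  0xbd626589844165478da9b1e6e82801,
  0xbb29640cc56ad47490528d5f374001,
  0xb98f1692cb122159146aa312f9b801,
  0xbdab4116281b5cc52c9039a497cc01,
  0xbc5871ae8d20a66820aead9524bc01,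
  0x25ca58a444159338db583e91b1ae1,
  0x4a7040d456accfa904c724f48dae1,
  0x29ee6920b122c9614669caa7a46e1,
  0x4133115c81b63232c967a9953d2e1,
  0x3a4f1ae6d20a8ab20b14c0cca9ee1,
  0x4d49221e228cf08b57493ac6656e1,
  0x3e122b523592aea090754e36332e1,
  0x8964ad87461de8744d32b60a92417,
  0x8d05644873552d9d2cf589d054817,
  0x91ab350b5b324279e2940e6e82817,
  0x9448b1d6c899434d692691f374017,
  0xac6d8d506a5a04930ea1152f9b817,
  0xa082a31b63c5c551ab01ae497cc17,
  0xb4a339851ad26b8598e221524bc17,
  0x4133a31d63c5b259aa87a8a418837,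
  0x3a4f39a71ad04a4598d4c16520c37,
  0x4d49ad9f461c706c4c29390b29037,
  0x3e12645273548e152c354da859437,
  0x25ca35255b30b319e2483c4d42c37,
  0x4a70b1d4c8996f25685724626a037,
  0x29ee8d606a59092b0eb9c88313437]

theorem centLit_facts : centLit.length = 42 ∧ centLit.Nodup ∧
    centLit.all (fun c => isM24Code c && (permMulCode idPacked c == c) && commCodes c sevenElt) = true := by
  decide +kernel

open Cfsg Subgroup

/-- The permutation as an element of the Mathieu group. -/
noncomputable def sevenM : M24 := ⟨permOf sevenElt, permOf_mem_M24 sevenElt_facts.1⟩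

theorem card_zpowers_sevenM : Nat.card (zpowers sevenM) = 7 := by
  rw [Nat.card_zpowers, ← orderOf_coe]; exact orderOf_sevenElt

/-- The list is the whole centralizer. -/
theorem exists_centLit {τ : Equiv.Perm GolayPt} (hτ : τ ∈ M24)
    (h : τ * permOf sevenElt = permOf sevenElt * τ) : ∃ code ∈ centLit, permOf code = τ := by
  classical
  obtain ⟨-, hC, -⟩ := sylow_seven _ card_zpowers_sevenM
  have hmem : ∀ g : M24, g ∈ centralizer (zpowers sevenM : Set ↥M24) ↔
      (g : Equiv.Perm GolayPt) * permOf sevenElt = permOf sevenElt * g := fun g => by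
    rw [zpowers_eq_closure, centralizer_closure, mem_centralizer_singleton_iff, Subtype.ext_iff]
    rfl
  have hf : ∀ code ∈ centLit, isPermCode code = true ∧ permOf code ∈ M24 ∧ permMulCode idPacked code = code ∧
      permOf code * permOf sevenElt = permOf sevenElt * permOf code := fun code hc => by
    have h' := List.all_eq_true.1 centLit_facts.2.2 code hc
    simp only [Bool.and_eq_true, beq_iff_eq] at h'
    exact ⟨isPermCode_of_isM24Code h'.1.1, permOf_mem_M24 h'.1.1, h'.1.2,
      eq_mul_of_commCodes (isPermCode_of_isM24Code h'.1.1) (isPermCode_of_isM24Code sevenElt_facts.1) h'.2⟩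
  let f : ↥centLit.toFinset → centralizer (zpowers sevenM : Set ↥M24) := fun c =>
    ⟨⟨permOf c, (hf c (List.mem_toFinset.1 c.2)).2.1⟩, (hmem _).2 (hf c (List.mem_toFinset.1 c.2)).2.2.2⟩
  have hinj : Function.Injective f := fun a b e => Subtype.ext (by
    obtain ⟨a1, -, a3, -⟩ := hf a (List.mem_toFinset.1 a.2)
    obtain ⟨b1, -, b3, -⟩ := hf b (List.mem_toFinset.1 b.2)
    exact permOf_inj_normal a1 b1 a3 b3 (congrArg (fun g : centralizer (zpowers sevenM : Set ↥M24) =>
      ((g : M24) : Equiv.Perm GolayPt)) e))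
  have hbij := (Nat.bijective_iff_injective_and_card f).2 ⟨hinj, by
    rw [hC, Nat.card_eq_fintype_card, Fintype.card_coe, List.toFinset_card_of_nodup centLit_facts.2.1,
      centLit_facts.1]⟩
  obtain ⟨c, hc⟩ := hbij.2 ⟨⟨τ, hτ⟩, (hmem _).2 h⟩
  exact ⟨c, List.mem_toFinset.1 c.2, congrArg (fun g : centralizer (zpowers sevenM : Set ↥M24) =>
    ((g : M24) : Equiv.Perm GolayPt)) hc⟩

/-- No element of the Mathieu group inverts the element of order seven. -/
theorem no_inverting {τ : Equiv.Perm GolayPt} (hτ : τ ∈ M24)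
    (h : τ * permOf sevenElt * τ⁻¹ = (permOf sevenElt)⁻¹) : False := by
  set S := zpowers sevenM
  obtain ⟨hN, hC, -⟩ := sylow_seven _ card_zpowers_sevenM
  set t : M24 := ⟨τ, hτ⟩
  have hts : t * sevenM * t⁻¹ = sevenM⁻¹ := Subtype.ext h
  have htN : t ∈ normalizer (S : Set ↥M24) :=
    (mem_normalizer_zpowers _ _).2 (hts ▸ inv_mem (mem_zpowers _))
  have hk := (normalizerMonoidHom S).ker.card_mul_index
  rw [index_ker, normalizerMonoidHom_ker, hN] at hk
  have hC' : Nat.card ((centralizer (S : Set ↥M24)).subgroupOf (normalizer (S : Set ↥M24))) = 42 :=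
    (Nat.card_congr (subgroupOfEquivOfLe (centralizer_le_normalizer _)).toEquiv).trans hC
  rw [hC'] at hk
  have h3 : Nat.card (normalizerMonoidHom S).range = 3 := by omega
  have hpow : (normalizerMonoidHom S ⟨t, htN⟩) ^ 3 = 1 := by
    have := pow_card_eq_one' (G := (normalizerMonoidHom S).range) (x := ⟨_, ⟨t, htN⟩, rfl⟩)
    rw [h3] at this
    exact congrArg Subtype.val this
  have hin : t ^ 3 ∈ centralizer (S : Set ↥M24) := by
    have : (⟨t, htN⟩ : normalizer (S : Set ↥M24)) ^ 3 ∈ (normalizerMonoidHom S).ker := by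
      rw [MonoidHom.mem_ker, map_pow, hpow]
    rw [normalizerMonoidHom_ker] at this
    exact this
  have e1 : t ^ 3 * sevenM * (t ^ 3)⁻¹ = sevenM := by
    rw [(mem_centralizer_iff.1 hin _ (mem_zpowers sevenM)).symm, mul_inv_cancel_right]
  have e2 : t ^ 3 * sevenM * (t ^ 3)⁻¹ = sevenM⁻¹ := by
    calc t ^ 3 * sevenM * (t ^ 3)⁻¹ = t * (t * (t * sevenM * t⁻¹) * t⁻¹) * t⁻¹ := by
          rw [pow_succ, pow_succ, pow_one]; group
      _ = sevenM⁻¹ := by
          rw [hts, show t * sevenM⁻¹ * t⁻¹ = sevenM by rw [← conj_inv, hts, inv_inv], hts]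
  have h2 : sevenM ^ 2 = 1 := by
    rw [pow_two, mul_eq_one_iff_eq_inv]; exact e1.symm.trans e2
  have h7 := orderOf_dvd_of_pow_eq_one h2
  rw [← orderOf_coe, show ((sevenM : M24) : Equiv.Perm GolayPt) = permOf sevenElt from rfl, orderOf_sevenElt] at h7
  norm_num at h7

end CfsgLib.Spor.MonsterType.Seven
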