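import Cfsg.Agent.Lib.Spor.MonsterType.Seven.Classes
import Cfsg.Agent.Lib.Spor.MonsterType.Seven.NormFacts
import Cfsg.Agent.Lib.Spor.Leech.MonsterPlus

/-!
# Elements of the cross stabiliser and the two extra elements, against the element of order seven
-/

set_option autoImplicit false

namespace CfsgLib.Spor.MonsterType.Seven

open Subgroup CfsgLib.Spor CfsgLib.Spor.Leech
open Cfsg (leechLattice Co0 sqNorm GolayPt M24 supports golayCode signedPerm)
open scoped Pointwise

noncomputable section

/-- The centralizer of the element of order seven. -/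
def C0 : Subgroup Co0 := centralizer {P}

theorem mem_C0 {x : Co0} : x ∈ C0 ↔ x * P = P * x := mem_centralizer_singleton_iff

theorem P_mem : P ∈ C0 := mem_C0.2 rfl

theorem negAut_mem : negAut ∈ C0 := mem_C0.2 (mem_center_iff.1 negAut_central P).symm

theorem sigma_pow_seven : sigma ^ 7 = 1 := orderOf_sevenElt ▸ pow_orderOf_eq_one sigma

theorem P_eight (i : GolayPt) : P • eight i = eight (fnPt sevenElt i) := by
  rw [← sigma_apply]; exact prmHom_eight ⟨sigma, sigma_mem⟩ i

theorem P_pow (k : ℕ) : P ^ k = prmHom (⟨sigma, sigma_mem⟩ ^ k) := by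
  rw [map_pow]; rfl

theorem P_pow_seven : P ^ 7 = 1 := by
  rw [P_pow, show (⟨sigma, sigma_mem⟩ : M24) ^ 7 = 1 from Subtype.ext sigma_pow_seven, map_one]

/-- The element centralizing the element of order seven. -/
def cAut : Co0 := matAut cTab cTabT cTab_cert cTabT_cert

/-- The element inverting the element of order seven. -/
def yAut : Co0 := matAut yTab yTabT yTab_cert yTabT_cert

theorem cAut_mem : cAut ∈ C0 := by
  refine mem_C0.2 (co0_ext fun i => Subtype.ext (funext fun p => ?_))
  obtain ⟨p, rfl⟩ := sigma.surjective p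
  rw [mul_smul, mul_smul, sigma_apply, P_eight, P_apply, cAut, matAut_eight, matAut_eight, tab_comm.1]

theorem yAut_inverts : yAut * P * yAut⁻¹ = P⁻¹ := by
  refine eq_inv_of_mul_eq_one_left ?_
  rw [show yAut * P * yAut⁻¹ * P = 1 ↔ P * yAut * P = yAut from ?_]
  · refine co0_ext fun i => Subtype.ext (funext fun p => ?_)
    obtain ⟨p, rfl⟩ := sigma.surjective p
    rw [mul_smul, mul_smul, sigma_apply, P_eight, P_apply, yAut, matAut_eight, matAut_eight, tab_comm.2]
  · constructor
    · intro h
      have h' : yAut * P * yAut⁻¹ = P⁻¹ := eq_inv_of_mul_eq_one_left h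
      calc P * yAut * P = P * (yAut * P * yAut⁻¹) * yAut := by group
        _ = yAut := by rw [h']; group
    · intro h
      calc yAut * P * yAut⁻¹ * P = P⁻¹ * (P * yAut * P) * yAut⁻¹ * P := by group
        _ = 1 := by rw [h]; group

theorem single_inj {a b : GolayPt} {x y : ℤ} (hx : x ≠ 0) (h : (Pi.single a x : GolayPt → ℤ) = Pi.single b y) :
    a = b ∧ x = y := by
  have := congrFun h a
  rw [Pi.single_eq_same, Pi.single_apply] at this
  split_ifs at this with e
  · exact ⟨e, this⟩
  · exact absurd this hx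

theorem mono_eight {τ : Equiv.Perm GolayPt} (hτ : τ ∈ M24) {c : Finset GolayPt}
    (hc : c ∈ supports (golayCode : Set (GolayPt → ZMod 2))) (i : GolayPt) :
    ((monoAut hτ hc • eight i : leechLattice) : GolayPt → ℤ) = Pi.single (τ i) (if τ i ∈ c then -8 else 8) := by
  rw [monoAut_smul]; exact signedPerm_eight τ c i 8

theorem P_single {w : leechLattice} {a : GolayPt} {x : ℤ} (h : (w : GolayPt → ℤ) = Pi.single a x) :
    ((P • w : leechLattice) : GolayPt → ℤ) = Pi.single (sigma a) x := by
  funext p
  obtain ⟨q, rfl⟩ := sigma.surjective p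
  rw [sigma_apply q, P_apply, h, ← sigma_apply]
  simp only [Pi.single_apply, sigma.injective.eq_iff]

theorem mono_comm_iff {τ : Equiv.Perm GolayPt} (hτ : τ ∈ M24) {c : Finset GolayPt}
    (hc : c ∈ supports (golayCode : Set (GolayPt → ZMod 2))) :
    monoAut hτ hc ∈ C0 ↔ τ * sigma = sigma * τ ∧ ∀ p, (sigma p ∈ c ↔ p ∈ c) := by
  have hne : ∀ p : GolayPt, (if p ∈ c then (-8 : ℤ) else 8) ≠ 0 := fun p => by split_ifs <;> norm_num
  rw [mem_C0]
  constructor
  · intro h
    have key : ∀ i, τ (sigma i) = sigma (τ i) ∧ (τ (sigma i) ∈ c ↔ τ i ∈ c) := fun i => by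
      have e := congrArg (fun g : Co0 => ((g • eight i : leechLattice) : GolayPt → ℤ)) h
      simp only [mul_smul, P_eight, mono_eight, P_single (mono_eight hτ hc i), ← sigma_apply] at e
      obtain ⟨e1, e2⟩ := single_inj (hne _) e
      refine ⟨e1, ?_⟩
      split_ifs at e2 <;> simp_all
    refine ⟨Equiv.ext fun i => (key i).1, fun p => ?_⟩
    obtain ⟨i, rfl⟩ := τ.surjective p
    rw [← (key i).1]; exact (key i).2
  · rintro ⟨h1, h2⟩
    refine co0_ext fun i => Subtype.ext ?_
    rw [mul_smul, mul_smul, P_eight, mono_eight, P_single (mono_eight hτ hc i), ← sigma_apply,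
      show τ (sigma i) = sigma (τ i) from Equiv.ext_iff.1 h1 i]
    simp only [h2]

theorem not_inverts {g : Co0} (hg : g ∈ crossStab) : g * P * g⁻¹ ≠ P⁻¹ := by
  intro h
  obtain ⟨τ, hτ, c, hc, rfl⟩ := exists_monoAut hg
  have hne : ∀ p : GolayPt, (if p ∈ c then (-8 : ℤ) else 8) ≠ 0 := fun p => by split_ifs <;> norm_num
  have e' : P * monoAut hτ hc * P = monoAut hτ hc := by
    calc P * monoAut hτ hc * P = P * (monoAut hτ hc * P * (monoAut hτ hc)⁻¹) * monoAut hτ hc := by group
      _ = _ := by rw [h]; group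
  have e1 : sigma * τ * sigma = τ := Equiv.ext fun i => by
    have e := congrArg (fun g : Co0 => ((g • eight i : leechLattice) : GolayPt → ℤ)) e'
    simp only [mul_smul, P_eight, P_single (mono_eight hτ hc (fnPt sevenElt i)), mono_eight] at e
    obtain ⟨e1, -⟩ := single_inj (hne _) e
    rw [Equiv.Perm.mul_apply, Equiv.Perm.mul_apply, sigma_apply i]
    exact e1
  refine no_inverting hτ (eq_inv_of_mul_eq_one_right ?_)
  calc sigma * (τ * sigma * τ⁻¹) = (sigma * τ * sigma) * τ⁻¹ := by group
    _ = 1 := by rw [e1, mul_inv_cancel]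

theorem mem_crossStab_of_cong {g : Co0} (h : Cong (eight none) (g • eight none)) : g ∈ crossStab := by
  obtain ⟨u, hu⟩ := h
  have hin : ((g • eight none : leechLattice) : GolayPt → ℤ) ∈ Cfsg.cross (Pi.single none 8) :=
    ⟨Subtype.prop _, (co0_norm _ _).trans rfl, (-u : leechLattice), Subtype.prop _, by
      rw [hu]
      show Pi.single none 8 - ((eight none : GolayPt → ℤ) + ((u : GolayPt → ℤ) + (u : GolayPt → ℤ)))
        = 2 • -(u : GolayPt → ℤ)
      rw [two_nsmul]
      show Pi.single none 8 - (Pi.single none 8 + _) = _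
      abel⟩
  rw [cross_single] at hin
  obtain ⟨j, hj⟩ := mem_stdCross_iff.1 hin
  exact mem_crossStab_of_congr (i := none) (j := j) hj

theorem cong_of_mem_crossStab {g : Co0} (hg : g ∈ crossStab) : Cong (eight none) (g • eight none) := by
  have e : ∀ i, Cong (eight none) (eight i) := fun i => Cong.symm ⟨_, Plus.eight_congr none i⟩
  obtain ⟨j, hj | hj⟩ := mem_stdCross_iff.1 (hg (eight none) (eight_mem_stdCross none))
  · rw [hj]; exact e j
  · rw [hj]; exact (e j).trans (Cong.neg _)

end

end CfsgLib.Spor.MonsterType.Seven
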