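import Cfsg.Agent.Lib.Spor.Leech.MatAut
import Cfsg.Agent.Lib.Spor.SylowSeven

/-!
# Tables: the lattice fixed by an element of order seven, and two automorphisms related to it
-/

set_option autoImplicit false

namespace CfsgLib.Spor.MonsterType.Seven

open CfsgLib.Spor.Leech
open Cfsg (GolayPt)

/-- The orbits of the element on the points. -/
def grpMasks : List ℕ := [8388608, 1, 2, 7475392, 902656, 10556]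

/-- The orbit of a point. -/
def grp (p : GolayPt) : Fin 6 :=
  ⟨(grpMasks.findIdx fun m => m.testBit (ptIdx p)) % 6, Nat.mod_lt _ (by norm_num)⟩

/-- Parameters of a fixed vector. -/
abbrev Par : Type := ℤ × ℤ × ℤ × ℤ × ℤ × ℤ

/-- A coordinate of the parameters. -/
def Par.get (t : Par) : Fin 6 → ℤ := ![t.1, t.2.1, t.2.2.1, t.2.2.2.1, t.2.2.2.2.1, t.2.2.2.2.2]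

/-- The vector of the parameters. -/
def six (t : Par) : GolayPt → ℤ := fun p => t.get (grp p)

/-- A triangular basis. -/
def basis : List Par := [(5, 1, 1, 1, 1, 1), (0, 2, 0, 0, 2, 0), (0, 0, 2, 0, 0, 2), (4, 4, 0, 0, 0, 0), (0, 4, 4, 0, 0, 0), (0, 0, 8, 0, 0, 0)]

/-- Representatives of the classes. -/
def repTab : List Par := [
  (0, 0, 0, 0, 0, 0), (5, 1, 1, 1, 1, 1), (0, 2, 0, 0, 2, 0), (5, -1, 1, 1, -1, 1),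
  (0, 0, 2, 0, 0, 2), (5, 1, -1, 1, 1, -1), (6, 0, 0, -2, 0, 0), (5, -1, -1, 1, -1, -1),
  (4, 4, 0, 0, 0, 0), (1, -3, 1, 1, 1, 1), (4, 2, 0, 0, -2, 0), (1, -5, 1, 1, -1, 1),
  (2, -2, 0, -2, 2, 0), (1, -3, -1, 1, 1, -1), (2, -4, 0, -2, 0, 0), (1, -5, -1, 1, -1, -1),
  (0, 4, 4, 0, 0, 0), (5, -3, -3, 1, 1, 1), (0, 2, 4, 0, -2, 0), (3, -3, 3, -1, 1, -1),
  (0, 4, 2, 0, 0, -2), (3, 3, -3, -1, -1, 1), (0, 2, 2, 0, -2, -2), (5, 3, 3, 1, -1, -1),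
  (4, 0, -4, 0, 0, 0), (1, 1, 5, 1, 1, 1), (2, 0, 2, -2, 0, -2), (1, -1, 5, 1, -1, 1),
  (4, 0, -2, 0, 0, 2), (1, 1, 3, 1, 1, -1), (2, 0, 4, -2, 0, 0), (1, -1, 3, 1, -1, -1),
  (8, 0, 0, 0, 0, 0), (3, -1, -1, -1, -1, -1), (2, 0, 2, 2, 0, 2), (3, 1, -1, -1, 1, -1),
  (2, 2, 0, 2, 2, 0), (3, -1, 1, -1, -1, 1), (2, 0, 0, 2, 0, 0), (3, 1, 1, -1, 1, 1),
  (4, -4, 0, 0, 0, 0), (1, 5, 1, 1, 1, 1), (4, -2, 0, 0, 2, 0), (1, 3, 1, 1, -1, 1),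
  (2, 2, 0, -2, -2, 0), (1, 5, -1, 1, 1, -1), (2, 4, 0, -2, 0, 0), (1, 3, -1, 1, -1, -1),
  (0, 4, -4, 0, 0, 0), (3, 3, 3, -1, -1, -1), (0, 2, -4, 0, -2, 0), (5, 3, -3, 1, -1, 1),
  (0, 4, -2, 0, 0, 2), (5, -3, 3, 1, 1, -1), (0, 2, -2, 0, -2, 2), (3, -3, -3, -1, 1, 1),
  (4, 0, 4, 0, 0, 0), (1, 1, -3, 1, 1, 1), (2, 0, -2, -2, 0, 2), (1, -1, -3, 1, -1, 1),
  (4, 0, 2, 0, 0, -2), (1, 1, -5, 1, 1, -1), (2, 0, -4, -2, 0, 0), (1, -1, -5, 1, -1, -1)]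

/-- The classes of norm 64. -/
def longs : List ℕ := [6, 12, 17, 22, 23, 26, 32, 34, 36, 44, 51, 53, 54, 58]

/-- The seven classes in the orbit of the standard cross. -/
def uList : List ℕ := [12, 22, 26, 32, 44, 54, 58]

/-- The other seven classes. -/
def vList : List ℕ := [6, 17, 23, 34, 36, 51, 53]

/-- Images of the frame under an element centralizing the element of order seven. -/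
def cTab : List (List ℤ) := [
    [-2, 2, -2, -2, -2, -2, 0, 0, -2, 2, 2, -2, 0, -2, 2, 2, 2, 0, 2, 2, 0, 0, 0, 0],
    [-4, -4, 0, 0, 0, 0, -2, -2, 0, 0, 0, 0, -2, 0, 0, 0, 0, -2, 0, 0, -2, -2, -2, -2],
    [0, 0, -4, 0, 0, 0, 2, 2, 0, 0, 0, 0, -2, 0, 0, 0, 0, -2, 0, -4, -2, 2, -2, 2],
    [0, 0, 0, -4, 0, 0, -2, -2, 0, 0, 0, 0, 2, 0, 0, -4, 0, -2, 0, 0, -2, 2, 2, 2],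
    [0, 0, 0, 0, -4, 0, 2, -2, 0, -4, 0, 0, 2, 0, 0, 0, 0, 2, 0, 0, -2, -2, -2, 2],
    [0, 0, 0, 0, 0, -4, 2, -2, 0, 0, 0, 0, -2, 0, 0, 0, 0, -2, -4, 0, 2, -2, 2, 2],
    [0, 0, 0, 0, 0, 0, 2, -2, 0, 0, -4, -4, 2, 0, 0, 0, 0, -2, 0, 0, 2, 2, -2, -2],
    [0, 0, 0, -4, 0, 0, 2, 2, 0, 0, 0, 0, -2, 0, 0, -4, 0, 2, 0, 0, 2, -2, -2, -2],
    [0, 0, 0, 0, 0, 0, -2, -2, -4, 0, 0, 0, -2, 0, 0, 0, -4, 2, 0, 0, 2, 2, -2, 2],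
    [-2, 2, -2, -2, 2, 2, 0, 0, -2, -2, -2, 2, 0, 2, -2, 2, 2, 0, -2, 2, 0, 0, 0, 0],
    [-2, 2, -2, 2, -2, -2, 0, 0, 2, 2, -2, 2, 0, 2, -2, -2, -2, 0, 2, 2, 0, 0, 0, 0],
    [0, 0, 0, 0, 0, 0, -2, 2, 0, 0, -4, -4, -2, 0, 0, 0, 0, 2, 0, 0, -2, -2, 2, 2],
    [0, 0, 0, 0, 0, -4, -2, 2, 0, 0, 0, 0, 2, 0, 0, 0, 0, 2, -4, 0, -2, 2, -2, -2],
    [0, 0, 0, 0, 0, 0, -2, 2, 0, 0, 0, 0, 2, -4, -4, 0, 0, -2, 0, 0, 2, -2, -2, 2],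
    [-2, 2, 2, 2, -2, 2, 0, 0, -2, 2, 2, -2, 0, 2, -2, -2, 2, 0, -2, -2, 0, 0, 0, 0],
    [-2, 2, -2, 2, 2, 2, 0, 0, 2, -2, 2, -2, 0, -2, 2, -2, -2, 0, -2, 2, 0, 0, 0, 0],
    [-2, 2, 2, -2, 2, -2, 0, 0, 2, -2, 2, -2, 0, 2, -2, 2, -2, 0, 2, -2, 0, 0, 0, 0],
    [0, 0, 0, 0, 0, 0, 2, -2, 0, 0, 0, 0, -2, -4, -4, 0, 0, 2, 0, 0, -2, 2, 2, -2],
    [-2, 2, 2, -2, -2, 2, 0, 0, 2, 2, -2, 2, 0, -2, 2, 2, -2, 0, -2, -2, 0, 0, 0, 0],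
    [-2, 2, 2, 2, 2, -2, 0, 0, -2, -2, -2, 2, 0, -2, 2, -2, 2, 0, 2, -2, 0, 0, 0, 0],
    [0, 0, -4, 0, 0, 0, -2, -2, 0, 0, 0, 0, 2, 0, 0, 0, 0, 2, 0, -4, 2, -2, 2, -2],
    [0, 0, 0, 0, -4, 0, -2, 2, 0, -4, 0, 0, -2, 0, 0, 0, 0, -2, 0, 0, 2, 2, 2, -2],
    [0, 0, 0, 0, 0, 0, 2, 2, -4, 0, 0, 0, 2, 0, 0, 0, -4, -2, 0, 0, -2, -2, 2, -2],
    [-4, -4, 0, 0, 0, 0, 2, 2, 0, 0, 0, 0, 2, 0, 0, 0, 0, 2, 0, 0, 2, 2, 2, 2]]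

/-- The transpose. -/
def cTabT : List (List ℤ) := [
    [-2, -4, 0, 0, 0, 0, 0, 0, 0, -2, -2, 0, 0, 0, -2, -2, -2, 0, -2, -2, 0, 0, 0, -4],
    [2, -4, 0, 0, 0, 0, 0, 0, 0, 2, 2, 0, 0, 0, 2, 2, 2, 0, 2, 2, 0, 0, 0, -4],
    [-2, 0, -4, 0, 0, 0, 0, 0, 0, -2, -2, 0, 0, 0, 2, -2, 2, 0, 2, 2, -4, 0, 0, 0],
    [-2, 0, 0, -4, 0, 0, 0, -4, 0, -2, 2, 0, 0, 0, 2, 2, -2, 0, -2, 2, 0, 0, 0, 0],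
    [-2, 0, 0, 0, -4, 0, 0, 0, 0, 2, -2, 0, 0, 0, -2, 2, 2, 0, -2, 2, 0, -4, 0, 0],
    [-2, 0, 0, 0, 0, -4, 0, 0, 0, 2, -2, 0, -4, 0, 2, 2, -2, 0, 2, -2, 0, 0, 0, 0],
    [0, -2, 2, -2, 2, 2, 2, 2, -2, 0, 0, -2, -2, -2, 0, 0, 0, 2, 0, 0, -2, -2, 2, 2],
    [0, -2, 2, -2, -2, -2, -2, 2, -2, 0, 0, 2, 2, 2, 0, 0, 0, -2, 0, 0, -2, 2, 2, 2],
    [-2, 0, 0, 0, 0, 0, 0, 0, -4, -2, 2, 0, 0, 0, -2, 2, 2, 0, 2, -2, 0, 0, -4, 0],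
    [2, 0, 0, 0, -4, 0, 0, 0, 0, -2, 2, 0, 0, 0, 2, -2, -2, 0, 2, -2, 0, -4, 0, 0],
    [2, 0, 0, 0, 0, 0, -4, 0, 0, -2, -2, -4, 0, 0, 2, 2, 2, 0, -2, -2, 0, 0, 0, 0],
    [-2, 0, 0, 0, 0, 0, -4, 0, 0, 2, 2, -4, 0, 0, -2, -2, -2, 0, 2, 2, 0, 0, 0, 0],
    [0, -2, -2, 2, 2, -2, 2, -2, -2, 0, 0, -2, 2, 2, 0, 0, 0, -2, 0, 0, 2, -2, 2, 2],
    [-2, 0, 0, 0, 0, 0, 0, 0, 0, 2, 2, 0, 0, -4, 2, -2, 2, -4, -2, -2, 0, 0, 0, 0],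
    [2, 0, 0, 0, 0, 0, 0, 0, 0, -2, -2, 0, 0, -4, -2, 2, -2, -4, 2, 2, 0, 0, 0, 0],
    [2, 0, 0, -4, 0, 0, 0, -4, 0, 2, -2, 0, 0, 0, -2, -2, 2, 0, 2, -2, 0, 0, 0, 0],
    [2, 0, 0, 0, 0, 0, 0, 0, -4, 2, -2, 0, 0, 0, 2, -2, -2, 0, -2, 2, 0, 0, -4, 0],
    [0, -2, -2, -2, 2, -2, -2, 2, 2, 0, 0, 2, 2, -2, 0, 0, 0, 2, 0, 0, 2, -2, -2, 2],
    [2, 0, 0, 0, 0, -4, 0, 0, 0, -2, 2, 0, -4, 0, -2, -2, 2, 0, -2, 2, 0, 0, 0, 0],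
    [2, 0, -4, 0, 0, 0, 0, 0, 0, 2, 2, 0, 0, 0, -2, 2, -2, 0, -2, -2, -4, 0, 0, 0],
    [0, -2, -2, -2, -2, 2, 2, 2, 2, 0, 0, -2, -2, 2, 0, 0, 0, -2, 0, 0, 2, 2, -2, 2],
    [0, -2, 2, 2, -2, -2, 2, -2, 2, 0, 0, -2, 2, -2, 0, 0, 0, 2, 0, 0, -2, 2, -2, 2],
    [0, -2, -2, 2, -2, 2, -2, -2, -2, 0, 0, 2, -2, -2, 0, 0, 0, 2, 0, 0, 2, 2, 2, 2],
    [0, -2, 2, 2, 2, 2, -2, -2, 2, 0, 0, 2, -2, 2, 0, 0, 0, -2, 0, 0, -2, -2, -2, 2]]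

/-- Images of the frame under an element inverting the element of order seven. -/
def yTab : List (List ℤ) := [
    [-6, 0, 0, 0, 0, 0, 0, 0, 0, 2, 2, 0, 0, 0, 2, 2, 2, 0, 2, 2, 0, 0, 0, 0],
    [0, -2, -2, -2, -2, -2, -2, -2, -2, 0, 0, -2, -2, -2, 0, 0, 0, -2, 0, 0, -2, -2, -2, -2],
    [0, -2, -2, -2, 2, 2, 2, -2, -2, 0, 0, 2, 2, 2, 0, 0, 0, 2, 0, 0, -2, 2, -2, -2],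
    [0, -2, -2, 2, 2, 2, -2, 2, 2, 0, 0, -2, 2, -2, 0, 0, 0, -2, 0, 0, -2, 2, 2, -2],
    [0, -2, 2, 2, 2, -2, 2, 2, -2, 0, 0, 2, -2, -2, 0, 0, 0, -2, 0, 0, 2, 2, -2, -2],
    [0, -2, 2, 2, -2, 2, -2, 2, -2, 0, 0, -2, 2, 2, 0, 0, 0, 2, 0, 0, 2, -2, -2, -2],
    [0, -2, 2, -2, 2, -2, 2, 2, 2, 0, 0, -2, 2, 2, 0, 0, 0, -2, 0, 0, -2, -2, -2, 2],
    [0, -2, -2, 2, 2, 2, 2, -2, 2, 0, 0, -2, -2, -2, 0, 0, 0, 2, 0, 0, 2, -2, -2, 2],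
    [0, -2, -2, 2, -2, -2, 2, 2, 2, 0, 0, 2, -2, 2, 0, 0, 0, 2, 0, 0, -2, -2, 2, -2],
    [2, 0, 0, 0, 0, 0, 0, 0, 0, 2, 2, 0, 0, 0, 2, 2, 2, 0, 2, -6, 0, 0, 0, 0],
    [2, 0, 0, 0, 0, 0, 0, 0, 0, 2, 2, 0, 0, 0, 2, 2, -6, 0, 2, 2, 0, 0, 0, 0],
    [0, -2, 2, -2, 2, -2, -2, -2, 2, 0, 0, -2, -2, 2, 0, 0, 0, 2, 0, 0, 2, 2, 2, -2],
    [0, -2, 2, 2, -2, 2, 2, -2, -2, 0, 0, -2, -2, 2, 0, 0, 0, -2, 0, 0, -2, 2, 2, 2],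
    [0, -2, 2, -2, -2, 2, 2, -2, 2, 0, 0, 2, 2, -2, 0, 0, 0, -2, 0, 0, 2, -2, 2, -2],
    [2, 0, 0, 0, 0, 0, 0, 0, 0, 2, 2, 0, 0, 0, 2, 2, 2, 0, -6, 2, 0, 0, 0, 0],
    [2, 0, 0, 0, 0, 0, 0, 0, 0, 2, 2, 0, 0, 0, 2, -6, 2, 0, 2, 2, 0, 0, 0, 0],
    [2, 0, 0, 0, 0, 0, 0, 0, 0, 2, -6, 0, 0, 0, 2, 2, 2, 0, 2, 2, 0, 0, 0, 0],
    [0, -2, 2, -2, -2, 2, -2, 2, 2, 0, 0, 2, -2, -2, 0, 0, 0, 2, 0, 0, -2, 2, -2, 2],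
    [2, 0, 0, 0, 0, 0, 0, 0, 0, 2, 2, 0, 0, 0, -6, 2, 2, 0, 2, 2, 0, 0, 0, 0],
    [2, 0, 0, 0, 0, 0, 0, 0, 0, -6, 2, 0, 0, 0, 2, 2, 2, 0, 2, 2, 0, 0, 0, 0],
    [0, -2, -2, -2, 2, 2, -2, 2, -2, 0, 0, 2, -2, 2, 0, 0, 0, -2, 0, 0, 2, -2, 2, 2],
    [0, -2, 2, 2, 2, -2, -2, -2, -2, 0, 0, 2, 2, -2, 0, 0, 0, 2, 0, 0, -2, -2, 2, 2],
    [0, -2, -2, 2, -2, -2, -2, -2, 2, 0, 0, 2, 2, 2, 0, 0, 0, -2, 0, 0, 2, 2, -2, 2],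
    [0, -2, -2, -2, -2, -2, 2, 2, -2, 0, 0, -2, 2, -2, 0, 0, 0, 2, 0, 0, 2, 2, 2, 2]]

/-- The transpose. -/
def yTabT : List (List ℤ) := [
    [-6, 0, 0, 0, 0, 0, 0, 0, 0, 2, 2, 0, 0, 0, 2, 2, 2, 0, 2, 2, 0, 0, 0, 0],
    [0, -2, -2, -2, -2, -2, -2, -2, -2, 0, 0, -2, -2, -2, 0, 0, 0, -2, 0, 0, -2, -2, -2, -2],
    [0, -2, -2, -2, 2, 2, 2, -2, -2, 0, 0, 2, 2, 2, 0, 0, 0, 2, 0, 0, -2, 2, -2, -2],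
    [0, -2, -2, 2, 2, 2, -2, 2, 2, 0, 0, -2, 2, -2, 0, 0, 0, -2, 0, 0, -2, 2, 2, -2],
    [0, -2, 2, 2, 2, -2, 2, 2, -2, 0, 0, 2, -2, -2, 0, 0, 0, -2, 0, 0, 2, 2, -2, -2],
    [0, -2, 2, 2, -2, 2, -2, 2, -2, 0, 0, -2, 2, 2, 0, 0, 0, 2, 0, 0, 2, -2, -2, -2],
    [0, -2, 2, -2, 2, -2, 2, 2, 2, 0, 0, -2, 2, 2, 0, 0, 0, -2, 0, 0, -2, -2, -2, 2],
    [0, -2, -2, 2, 2, 2, 2, -2, 2, 0, 0, -2, -2, -2, 0, 0, 0, 2, 0, 0, 2, -2, -2, 2],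
    [0, -2, -2, 2, -2, -2, 2, 2, 2, 0, 0, 2, -2, 2, 0, 0, 0, 2, 0, 0, -2, -2, 2, -2],
    [2, 0, 0, 0, 0, 0, 0, 0, 0, 2, 2, 0, 0, 0, 2, 2, 2, 0, 2, -6, 0, 0, 0, 0],
    [2, 0, 0, 0, 0, 0, 0, 0, 0, 2, 2, 0, 0, 0, 2, 2, -6, 0, 2, 2, 0, 0, 0, 0],
    [0, -2, 2, -2, 2, -2, -2, -2, 2, 0, 0, -2, -2, 2, 0, 0, 0, 2, 0, 0, 2, 2, 2, -2],
    [0, -2, 2, 2, -2, 2, 2, -2, -2, 0, 0, -2, -2, 2, 0, 0, 0, -2, 0, 0, -2, 2, 2, 2],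
    [0, -2, 2, -2, -2, 2, 2, -2, 2, 0, 0, 2, 2, -2, 0, 0, 0, -2, 0, 0, 2, -2, 2, -2],
    [2, 0, 0, 0, 0, 0, 0, 0, 0, 2, 2, 0, 0, 0, 2, 2, 2, 0, -6, 2, 0, 0, 0, 0],
    [2, 0, 0, 0, 0, 0, 0, 0, 0, 2, 2, 0, 0, 0, 2, -6, 2, 0, 2, 2, 0, 0, 0, 0],
    [2, 0, 0, 0, 0, 0, 0, 0, 0, 2, -6, 0, 0, 0, 2, 2, 2, 0, 2, 2, 0, 0, 0, 0],
    [0, -2, 2, -2, -2, 2, -2, 2, 2, 0, 0, 2, -2, -2, 0, 0, 0, 2, 0, 0, -2, 2, -2, 2],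
    [2, 0, 0, 0, 0, 0, 0, 0, 0, 2, 2, 0, 0, 0, -6, 2, 2, 0, 2, 2, 0, 0, 0, 0],
    [2, 0, 0, 0, 0, 0, 0, 0, 0, -6, 2, 0, 0, 0, 2, 2, 2, 0, 2, 2, 0, 0, 0, 0],
    [0, -2, -2, -2, 2, 2, -2, 2, -2, 0, 0, 2, -2, 2, 0, 0, 0, -2, 0, 0, 2, -2, 2, 2],
    [0, -2, 2, 2, 2, -2, -2, -2, -2, 0, 0, 2, 2, -2, 0, 0, 0, 2, 0, 0, -2, -2, 2, 2],
    [0, -2, -2, 2, -2, -2, -2, -2, 2, 0, 0, 2, 2, 2, 0, 0, 0, -2, 0, 0, 2, 2, -2, 2],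
    [0, -2, -2, -2, -2, -2, 2, 2, -2, 0, 0, -2, 2, -2, 0, 0, 0, 2, 0, 0, 2, 2, 2, 2]]

end CfsgLib.Spor.MonsterType.Seven
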