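import Cfsg.Agent.Lib.Spor.MonsterType.Seven.Fixed

/-!
# The joint centralizer of `z` and the element of order seven acts as SL(3, 2)
-/

set_option autoImplicit false

namespace CfsgLib.Spor.MonsterType.Seven

open Subgroup CfsgLib.Spor CfsgLib.Spor.Leech
open Cfsg (leechLattice Co0 sqNorm GolayPt)

noncomputable section

variable {G : Type*} [Group G] [Finite G] {z : G} {Q : Subgroup G} {R : leechLattice → G → Prop}
  {π : ↥(centralizer ({z} : Set G)) →* Cfsg.Spor.Co1} {D : Data z Q R π} {b : G}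

/-- The joint centralizer. -/
abbrev D0 (z b : G) : Subgroup G := centralizer ({z} : Set G) ⊓ centralizer ({b} : Set G)

theorem actSL_negAut : actSL ⟨negAut, negAut_mem⟩ = 1 :=
  actSL_eq_one.2 fun a => by
    show Cong _ (negAut • rep (uOf a))
    rw [negAut_smul]; exact Cong.neg _

theorem actSL_P : actSL ⟨P, P_mem⟩ = 1 :=
  actSL_eq_one.2 fun a => by
    show Cong _ (P • rep (uOf a))
    rw [rep_fixed (uOf_facts.2.2.2.2 a)]; exact Cong.refl _

theorem lift_congr {x y : C0} (h : (QuotientGroup.mk (x : Co0) : Cfsg.Spor.Co1) = QuotientGroup.mk (y : Co0)) :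
    actSL x = actSL y := by
  have hm : (x : Co0)⁻¹ * (y : Co0) ∈ center Co0 := QuotientGroup.eq.1 h
  rcases mem_center_iff_eq.1 hm with e | e
  · rw [show x = y from Subtype.ext (inv_mul_eq_one.1 e)]
  · rw [show y = x * ⟨negAut, negAut_mem⟩ from Subtype.ext (eq_mul_of_inv_mul_eq e), map_mul, actSL_negAut, mul_one]

theorem mem_C0_of_image {x : Co0}
    (h : (QuotientGroup.mk (x * P * x⁻¹) : Cfsg.Spor.Co1) = QuotientGroup.mk P) : x ∈ C0 := by
  have hm : (x * P * x⁻¹)⁻¹ * P ∈ center Co0 := QuotientGroup.eq.1 h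
  rcases mem_center_iff_eq.1 hm with e | e
  · exact mem_C0.2 (mul_inv_eq_iff_eq_mul.1 (inv_mul_eq_one.1 e))
  · exfalso
    have hP : P = x * P * x⁻¹ * negAut := eq_mul_of_inv_mul_eq e
    have h7 := congrArg (fun g : Co0 => g ^ 7) hP
    rw [(show Commute (x * P * x⁻¹) negAut from mem_center_iff.1 negAut_central _).mul_pow, conj_pow,
      P_pow_seven, mul_one, mul_inv_cancel, one_mul] at h7
    have h2 : negAut ^ 2 = 1 := by
      rw [pow_two]; exact sgnAut_sq Cfsg.Spor.univ_mem_supports_golayCode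
    rw [show 7 = 2 * 3 + 1 from rfl, pow_succ, pow_mul, h2, one_pow, one_mul] at h7
    exact negAut_ne_one h7.symm

theorem Elt.exists_lift (E : Elt D b) (c : ↥(D0 z b)) :
    ∃ x : C0, (QuotientGroup.mk (x : Co0) : Cfsg.Spor.Co1) = π ⟨c, c.2.1⟩ := by
  obtain ⟨x, hx⟩ := QuotientGroup.mk_surjective (π ⟨c, c.2.1⟩)
  refine ⟨⟨x, mem_C0_of_image ?_⟩, hx⟩
  rw [QuotientGroup.mk_mul, QuotientGroup.mk_mul, QuotientGroup.mk_inv, hx, ← E.img, ← map_inv, ← map_mul,
    ← map_mul]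
  exact congrArg π (Subtype.ext (mul_inv_eq_iff_eq_mul.2 (mem_centralizer_singleton_iff.1 c.2.2)))

/-- The lift of the image in the first Conway group. -/
def Elt.lift (E : Elt D b) (c : ↥(D0 z b)) : C0 := (E.exists_lift c).choose

theorem Elt.lift_spec (E : Elt D b) (c : ↥(D0 z b)) :
    (QuotientGroup.mk ((E.lift c : C0) : Co0) : Cfsg.Spor.Co1) = π ⟨c, c.2.1⟩ := (E.exists_lift c).choose_spec

/-- The action on the seven classes. -/
def Elt.phi (E : Elt D b) : ↥(D0 z b) →* Matrix.SpecialLinearGroup (Fin 3) (ZMod 2) :=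
  MonoidHom.mk' (fun c => actSL (E.lift c)) fun c d => by
    rw [← map_mul]
    refine lift_congr ?_
    rw [coe_mul, QuotientGroup.mk_mul, E.lift_spec, E.lift_spec, E.lift_spec, ← map_mul]
    rfl

variable (E : Elt D b)
include E

theorem Elt.phi_surjective : Function.Surjective E.phi := by
  intro A
  obtain ⟨x, rfl⟩ := actSL_surjective A
  obtain ⟨c, hc⟩ := D.surj (QuotientGroup.mk (x : Co0))
  let S : Set G := {y | ∃ q ∈ Q, y = (c : G) * q}
  have hcomm : π ((⟨b, E.mem⟩ : ↥(centralizer ({z} : Set G))) * c) = π (c * ⟨b, E.mem⟩) := by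
    rw [map_mul, map_mul, E.img, hc, ← QuotientGroup.mk_mul, ← QuotientGroup.mk_mul, mem_C0.1 x.2]
  have hq0 : (c : G)⁻¹ * b * c * b⁻¹ ∈ Q := by
    refine (D.kerπ (c⁻¹ * ⟨b, E.mem⟩ * c * (⟨b, E.mem⟩ : ↥(centralizer ({z} : Set G)))⁻¹)).1 ?_
    rw [mul_assoc c⁻¹, map_mul, map_mul, hcomm, map_mul, map_inv, map_inv, inv_mul_cancel_left,
      mul_inv_cancel]
  have hS : ∀ y ∈ S, b * y * b⁻¹ ∈ S := by
    rintro _ ⟨q, hq, rfl⟩
    refine ⟨((c : G)⁻¹ * b * c * b⁻¹) * (b * q * b⁻¹), Q.mul_mem hq0 (D.core.norm b E.bz q hq), ?_⟩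
    group
  have hcard : S.ncard = 2 ^ 25 := by
    rw [← D.card, show S = (fun q => (c : G) * q) '' (Q : Set G) from
        Set.ext fun y => ⟨fun ⟨q, hq, e⟩ => ⟨q, hq, e.symm⟩, fun ⟨q, hq, e⟩ => ⟨q, hq, e.symm⟩⟩,
      Set.ncard_image_of_injective _ (mul_right_injective _), ← Nat.card_coe_set_eq]
    rfl
  obtain ⟨_, ⟨q, hq, rfl⟩, hb⟩ := exists_fixed_seven E.pow7 S hS hcard
  refine ⟨⟨(c : G) * q, mul_mem c.2 (D.core.le hq), mem_centralizer_singleton_iff.2 hb.symm⟩, ?_⟩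
  refine lift_congr ?_
  rw [E.lift_spec]
  show π (c * ⟨q, D.core.le hq⟩) = _
  rw [map_mul, (D.kerπ ⟨q, D.core.le hq⟩).2 hq, mul_one, hc]

theorem Elt.phi_eq_one_iff (c : ↥(D0 z b)) :
    E.phi c = 1 ↔ ∃ q ∈ fixed Q b, ∃ k : ℕ, (c : G) = q * b ^ k := by
  constructor
  · intro h
    obtain ⟨k, hk⟩ := kernel_cases (E.lift c) h
    have hπ : π ⟨c, c.2.1⟩ = π (⟨b, E.mem⟩ ^ k) := by
      rw [← E.lift_spec, map_pow, E.img, ← QuotientGroup.mk_pow]
      rcases hk with hk | hk <;> rw [hk]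
      rw [QuotientGroup.mk_mul, (QuotientGroup.eq_one_iff _).2 negAut_central, one_mul]
    have hq : (c : G) * (b ^ k)⁻¹ ∈ Q := by
      refine (D.kerπ (⟨c, c.2.1⟩ * (⟨b, E.mem⟩ ^ k : ↥(centralizer ({z} : Set G)))⁻¹)).1 ?_
      rw [map_mul, map_inv, hπ, mul_inv_cancel]
    exact ⟨_, ⟨hq, (centralizer ({b} : Set G)).mul_mem c.2.2 ((centralizer ({b} : Set G)).inv_mem (pow_mem (mem_centralizer_singleton_iff.2 rfl) k))⟩, k,
      (inv_mul_cancel_right _ _).symm⟩
  · rintro ⟨q, hq, k, e⟩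
    have hb : (b : G) ∈ D0 z b := ⟨E.mem, mem_centralizer_singleton_iff.2 rfl⟩
    have e' : c = ⟨q, D.core.le hq.1, hq.2⟩ * (⟨b, hb⟩ : ↥(D0 z b)) ^ k := Subtype.ext e
    have h1 : E.phi ⟨q, D.core.le hq.1, hq.2⟩ = 1 := by
      show actSL _ = 1
      rw [← map_one actSL]
      refine lift_congr ?_
      rw [E.lift_spec, (D.kerπ _).2 hq.1]
      rfl
    have h2 : E.phi ⟨b, hb⟩ = 1 := by
      show actSL _ = 1
      rw [← actSL_P]
      exact lift_congr ((E.lift_spec _).trans E.img)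
    rw [e', map_mul, map_pow, h1, h2, one_pow, one_mul]

/-- An element centralizing the fixed points acts trivially. -/
theorem Elt.phi_of_centralizes (c : ↥(D0 z b)) (h : ∀ r ∈ fixed Q b, r * (c : G) = c * r) : E.phi c = 1 := by
  refine actSL_eq_one.2 fun a => ?_
  have hn := uOf_facts.2.2.2.2 a
  have hr := pick_spec D (uOf a)
  have h' := D.conj ⟨c, c.2.1⟩ (E.lift_spec c).symm hr
  change R _ ((c : G) * pick D (uOf a) * (c : G)⁻¹) at h'
  rw [mul_inv_eq_iff_eq_mul.2 (h _ (E.pick_mem hn)).symm] at h'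
  exact D.congr_of_fixed hr h'

end

end CfsgLib.Spor.MonsterType.Seven
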